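import Cfsg.Agent.Lib.SymNineThree.Rotation
import Cfsg.Agent.S3701

/-!
The kinds without inversion of the central element.
-/

set_option autoImplicit false
set_option maxRecDepth 20000
set_option linter.style.haveILetI false

namespace CfsgLib.SymNineThree

open Mon

attribute [local instance 2000] List.decidableBAll List.decidableBEx

theorem swap_facts : ([0, 2].all fun k => involOK k 432 &&
    ((List.range 1296).all fun x => !inC k 432 x || Nat.beq (mulM x (trC 9)) (mulM (trC 9) x)) &&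
    ((List.range 1296).all fun x => !inK k x || !oddB x || !Nat.beq (mulM x x) 0 || conjTo k 432 x) &&
    (flL.all fun b => !inK k b || Nat.beq b 0 || (!oddB b && (jL b).any fun w => !Nat.beq w 0)) &&
    ((List.range 1296).all fun x => !inK k x || !Nat.beq (mulM (mulM x 43) (invM x)) (invM 43))) = true ∧
    (9 : ℕ) ∈ jL 432 ∧ oddB 432 = true ∧ inT 432 = false := by
  refine ⟨?_, ?_, ?_, ?_⟩ <;> decide +kernel

/-- The generators of the diagonal subgroup of kind two. -/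
def genD : List ℕ := [1, 6, 36, 28, 148]

theorem genD_facts : (genD.all fun g => Nat.blt g 1296 && inK 2 g && Nat.beq (blk g) 0) = true ∧
    ([21, 111, 126, 0].all fun b => (List.range 27).any fun v => [0, 28, 148, mulM 28 148].any fun q =>
      Nat.beq (mulM (trC v) q) b) = true ∧
    (flL.all fun b => !inK 2 b || [21, 111, 126, 0].any fun q => Nat.beq q b) = true ∧
    (∀ w : Fin 27, tr (w : ℕ) = of 1 ^ ((w : ℕ) % 3) * of 6 ^ ((w : ℕ) / 3 % 3) * of 36 ^ ((w : ℕ) / 9)) := by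
  refine ⟨?_, ?_, ?_, ?_⟩ <;> decide +kernel

theorem genD_el : el (of 1) = Equiv.swap (0 : Fin 9) 1 * Equiv.swap 1 2 ∧
    el (of 6) = Equiv.swap (3 : Fin 9) 4 * Equiv.swap 4 5 ∧
    el (of 36) = Equiv.swap (6 : Fin 9) 7 * Equiv.swap 7 8 ∧
    el (of 28) = Equiv.swap (0 : Fin 9) 1 * Equiv.swap 3 4 ∧
    el (of 148) = Equiv.swap (0 : Fin 9) 1 * Equiv.swap 6 7 := by decide +kernel

/-- The diagonal subgroup of kind two. -/
def Dg : Subgroup Mon := Subgroup.closure ({of 1, of 6, of 36, of 28, of 148} : Set Mon)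

theorem mem_Dg {x : Mon} : x ∈ Dg ↔ x ∈ Kd 2 ∧ blk x.c = 0 := by
  constructor
  · intro hx
    induction hx using Subgroup.closure_induction with
    | mem y hy =>
      obtain ⟨g, hg, rfl⟩ : ∃ g ∈ genD, y = of g := by
        simp only [Set.mem_insert_iff, Set.mem_singleton_iff] at hy
        rcases hy with rfl | rfl | rfl | rfl | rfl <;> exact ⟨_, by simp [genD], rfl⟩
      have h := List.all_eq_true.mp genD_facts.1 g hg
      simp only [Bool.and_eq_true, Nat.beq_eq] at h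
      have hl : g < 1296 := lt_of_blt h.1.1
      exact ⟨mem_Kd_of hl h.1.2, by rw [code_of hl]; exact h.2⟩
    | one => exact ⟨(Kd 2).one_mem, rfl⟩
    | mul a b _ _ ha hb => exact ⟨(Kd 2).mul_mem ha.1 hb.1, by rw [blk_mul, ha.2, hb.2]; decide +kernel⟩
    | inv a _ ha =>
      refine ⟨(Kd 2).inv_mem ha.1, ?_⟩
      have e : blkHom a⁻¹ = 1 := by rw [map_inv, blkHom_eq_one.mpr ha.2, inv_one]
      exact blkHom_eq_one.mp e
  · rintro ⟨hx, hb⟩
    have hg : ∀ g ∈ ({of 1, of 6, of 36, of 28, of 148} : Set Mon), g ∈ Dg := fun g hg => Subgroup.subset_closure hg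
    have htr : ∀ v < 27, tr v ∈ Dg := fun v hv => by
      rw [genD_facts.2.2.2 ⟨v, hv⟩]
      exact mul_mem (mul_mem (pow_mem (hg _ (by simp)) _) (pow_mem (hg _ (by simp)) _))
        (pow_mem (hg _ (by simp)) _)
    obtain ⟨v, hv, b, hbL, hbK, rfl⟩ := blk0_decomp hx hb
    refine mul_mem (htr v hv) ?_
    have hbl : b < 1296 := lt_of_blt ((Bool.and_eq_true _ _).mp ((Bool.and_eq_true _ _).mp
      (List.all_eq_true.mp flL_facts.1 b hbL)).1).1
    have h := List.all_eq_true.mp genD_facts.2.2.1 b hbL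
    rw [show inK 2 b = true by have := mem_Kd.mp hbK; rwa [code_of hbl] at this] at h
    simp only [Bool.not_true, Bool.false_or, List.any_eq_true, Nat.beq_eq] at h
    obtain ⟨q, hq, rfl⟩ := h
    have h' := List.all_eq_true.mp genD_facts.2.1 q hq
    simp only [List.any_eq_true, List.mem_range, Nat.beq_eq] at h'
    obtain ⟨w, hw, r, hr, e⟩ := h'
    rw [show of q = tr w * of r from code_eq.mpr (by
      rw [code_of hbl, code_mul, code_tr hw, code_of (by simp at hr; rcases hr with rfl | rfl | rfl | rfl <;> decide +kernel)]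
      exact e.symm)]
    refine mul_mem (htr w hw) ?_
    simp only [List.mem_cons, List.not_mem_nil, or_false] at hr
    rcases hr with rfl | rfl | rfl | rfl
    · rw [show of 0 = 1 from rfl]; exact one_mem _
    · exact hg _ (by simp)
    · exact hg _ (by simp)
    · rw [show of (mulM 28 148) = of 28 * of 148 from by decide +kernel]
      exact mul_mem (hg _ (by simp)) (hg _ (by simp))

theorem Dg_map : Dg.map elHom = Subgroup.closure ({Equiv.swap (0 : Fin 9) 1 * Equiv.swap 1 2,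
    Equiv.swap (3 : Fin 9) 4 * Equiv.swap 4 5, Equiv.swap (6 : Fin 9) 7 * Equiv.swap 7 8,
    Equiv.swap (0 : Fin 9) 1 * Equiv.swap 3 4, Equiv.swap (0 : Fin 9) 1 * Equiv.swap 6 7} :
      Set (Equiv.Perm (Fin 9))) := by
  obtain ⟨h1, h2, h3, h4, h5⟩ := genD_el
  rw [Dg, MonoidHom.map_closure]
  simp only [Set.image_insert_eq, Set.image_singleton, elHom, MonoidHom.mk'_apply, h1, h2, h3, h4, h5]

namespace Setup

universe w

variable {G : Type w} [Group G] [Finite G] (S : Setup G)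

theorem no_inverter (hk : S.k = 0 ∨ S.k = 2) :
    ∀ g : G, g * S.z * g⁻¹ ≠ S.σ ∧ g * S.z * g⁻¹ ≠ S.σ⁻¹ := by
  intro g
  have hmem : (S.k : ℕ) ∈ ([0, 2] : List ℕ) := by rcases hk with h | h <;> simp [h]
  have hf := List.all_eq_true.mp swap_facts.1 _ hmem
  simp only [Bool.and_eq_true] at hf
  exact ⟨fun e => S.σ_not_z hf.2 (Or.inl e), fun e => S.σ_not_z hf.2 (Or.inr e)⟩

/-- The centralizer of the swap lies in the normalizer. -/
theorem cent_swap (hk : S.k = 0 ∨ S.k = 2) :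
    ∀ g : G, g * S.f (of 432) = S.f (of 432) * g → g ∈ S.Φ.range := by
  have hmem : (S.k : ℕ) ∈ ([0, 2] : List ℕ) := by rcases hk with h | h <;> simp [h]
  have hf := List.all_eq_true.mp swap_facts.1 _ hmem
  simp only [Bool.and_eq_true] at hf
  have hk3 : S.k ≠ 3 := by rcases hk with h | h <;> simp [h]
  have hI : InvolHyp S 432 := ⟨hf.1.1.1.1, fun v hv h0 => S.allCN_of_ne_three hk3 v (mem_jL.mp hv).1 h0⟩
  obtain ⟨Q, _, _, π, hsurj, hker, hyp, hfin, hdec, -, -⟩ := S.exists_invol_quot hI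
  refine hfin ?_
  have h9 : (9 : ℕ) ∈ jL 432 := swap_facts.2.1
  have h432 : (432 : ℕ) < 1296 := by norm_num
  have hok := hf.1.1.1.1
  simp only [involOK, Bool.and_eq_true] at hok
  have huK : of 432 ∈ Kd S.k := mem_Kd_of h432 hok.1.1.1.1.1.1
  let w : Subgroup.centralizer ({S.f (of 432)} : Set G) :=
    ⟨S.f (tr 9), Subgroup.mem_centralizer_singleton_iff.mpr (S.comm_of_jL h432 huK h9).symm⟩
  refine normal_of_fixed hyp (w := π w) ⟨w, S.tr_mem_J (by norm_num), rfl⟩ ?_ ?_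
  · intro e
    have hw : w ∈ π.ker := MonoidHom.mem_ker.mpr e
    rw [hker, Subgroup.mem_subgroupOf] at hw
    obtain ⟨i, hi⟩ := hw
    have h2 : (w : G) * (w : G) = 1 := by
      have h432' : S.f (of 432) * S.f (of 432) = 1 := by
        rw [← S.f_mul huK huK, show of 432 * of 432 = (1 : Mon) from by decide +kernel, S.f_one]
      rw [← hi]
      show S.f (of 432) ^ i * S.f (of 432) ^ i = 1
      rw [← (Commute.refl (S.f (of 432))).mul_zpow, h432', one_zpow]
    have h3 := S.J_cube (S.tr_mem_J (show 9 < 27 by norm_num))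
    change S.f (tr 9) * S.f (tr 9) = 1 at h2
    rw [pow_three, h2, mul_one] at h3
    exact absurd (S.f_eq_one (tr_mem (by norm_num)) h3) (by decide +kernel)
  · intro n hn
    obtain ⟨g, rfl, x, hx, hgx, hxc⟩ := hdec n hn
    rw [← map_mul, ← map_mul]
    refine congrArg π (Subtype.ext ?_)
    show (g : G) * S.f (tr 9) = S.f (tr 9) * (g : G)
    rw [hgx, S.f_comm hx (tr_mem (by norm_num))]
    refine comm_iff.mpr ?_
    rw [code_tr (show 9 < 27 by norm_num)]
    exact Nat.eq_of_beq_eq_true (impB (all_mon hf.1.1.1.2 x) hxc)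

/-- The kernel of the sign transfer. -/
theorem step_one (hk : S.k = 0 ∨ S.k = 2) :
    ∃ G1 : Subgroup G, G1.Normal ∧ ∀ x ∈ Kd S.k, (S.f x ∈ G1 ↔ oddB x.c = false) := by
  classical
  haveI : Fact (Nat.Prime 2) := ⟨Nat.prime_two⟩
  have hmem : (S.k : ℕ) ∈ ([0, 2] : List ℕ) := by rcases hk with h | h <;> simp [h]
  have hf := List.all_eq_true.mp swap_facts.1 _ hmem
  simp only [Bool.and_eq_true] at hf
  obtain ⟨⟨⟨⟨hok, -⟩, hclass⟩, hfl⟩, -⟩ := hf
  simp only [involOK, Bool.and_eq_true] at hok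
  obtain ⟨⟨⟨⟨⟨⟨huin, -⟩, hu2⟩, -⟩, -⟩, h3⟩, -⟩ := hok
  have h432 : (432 : ℕ) < 1296 := by norm_num
  have huK : of 432 ∈ Kd S.k := mem_Kd_of h432 huin
  have hC := S.cent_swap hk
  let θ : S.Φ.range →* Multiplicative (ZMod 2) := S.homOn S.Φ.range le_rfl sgn fun x y _ _ _ _ => sgn_mul x y
  have hθ : ∀ (a : S.Φ.range) (x : Mon), x ∈ Kd S.k → (a : G) = S.f x → θ a = sgn x := fun a x hx e =>
    S.homOn_apply S.Φ.range le_rfl sgn (fun x y _ _ _ _ => sgn_mul x y) hx a e
  let V : G →* Multiplicative (ZMod 2) := MonoidHom.transfer θ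
  have hτ2 : S.f (of 432) ^ 2 = 1 := by
    rw [pow_two, ← S.f_mul huK huK, show of 432 * of 432 = (1 : Mon) from code_eq.mpr (by
      rw [code_mul, code_of h432, code_one]; exact Nat.eq_of_beq_eq_true hu2), S.f_one]
  have hcls : ∀ (g : G) (a : G) (hg : g⁻¹ * a * g ∈ S.Φ.range), a ^ 2 = 1 → θ ⟨_, hg⟩ ≠ 1 →
      ∃ n ∈ S.Φ.range, (g * n) * S.f (of 432) * (g * n)⁻¹ = a := by
    intro g a hg ha hne
    obtain ⟨y, hy, hye⟩ := S.exists_f hg
    rw [hθ _ y hy hye, ne_eq, sgn_eq_one, Bool.not_eq_false] at hne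
    have hy2 : mulM y.c y.c = 0 := by
      have e : y * y = 1 := S.f_eq_one ((Kd S.k).mul_mem hy hy) (by
        rw [S.f_mul hy hy, ← hye]
        calc g⁻¹ * a * g * (g⁻¹ * a * g) = g⁻¹ * a ^ 2 * g := by rw [pow_two]; group
          _ = 1 := by rw [ha]; group)
      rw [← code_mul, e, code_one]
    have h' := all_mon hclass y
    rw [mem_Kd.mp hy, hne, hy2, Nat.beq_refl] at h'
    simp only [Bool.not_true, Bool.false_or] at h'
    obtain ⟨c, hc, hce⟩ := conjTo_spec h432 h'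
    refine ⟨(S.f c)⁻¹, inv_mem (S.f_mem hc), ?_⟩
    rw [← hce, S.f_conj hc hy, ← hye]; group
  have hVτ : V (S.f (of 432)) ≠ 1 := by
    refine transfer_ne_one_of_le S.Φ.range θ hτ2 (S.f_mem huK) ?_ ?_ (fun c hc => hC c hc)
    · rw [hθ _ _ huK rfl, ne_eq, sgn_eq_one, code_of h432]; simp [swap_facts.2.2.1]
    · intro g hg hne
      obtain ⟨n, hn, e⟩ := hcls g _ hg hτ2 hne
      have := S.Φ.range.mul_mem (hC (g * n) (mul_inv_eq_iff_eq_mul.mp e)) (inv_mem hn)
      simpa using this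
  have hVb : ∀ b ∈ flL, of b ∈ Kd S.k → V (S.f (of b)) = 1 := by
    intro b hb hbK
    have hbl : b < 1296 := lt_of_blt ((Bool.and_eq_true _ _).mp ((Bool.and_eq_true _ _).mp
      (List.all_eq_true.mp flL_facts.1 b hb)).1).1
    have h' := List.all_eq_true.mp hfl b hb
    rw [show inK S.k b = true by have := mem_Kd.mp hbK; rwa [code_of hbl] at this] at h'
    simp only [Bool.not_true, Bool.false_or, Bool.or_eq_true, Bool.and_eq_true, Bool.not_eq_true',
      List.any_eq_true, Nat.beq_eq] at h'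
    rcases h' with rfl | ⟨hbo, w, hw, hw0⟩
    · rw [show of 0 = (1 : Mon) from rfl, S.f_one, map_one]
    · refine transfer_eq_one S.Φ.range θ (S.f_invol hb hbK) fun g hg => ?_
      by_contra hne
      obtain ⟨n, hn, e⟩ := hcls g _ hg (S.f_invol hb hbK) hne
      have hk3 : S.k ≠ 3 := by rcases hk with h | h <;> simp [h]
      have hm := S.inv_conj_range h432 huK h3 hC hbl hbK hw
        (S.allCN_of_ne_three hk3 w (mem_jL.mp hw).1 (fun e0 => by rw [e0] at hw0; exact absurd hw0 (by decide))) e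
      obtain ⟨x, hx, hxe⟩ := S.exists_f hm
      rw [hxe, ← S.f_conj hx huK] at e
      have e2 := congrArg (fun y : Mon => oddB y.c) (S.f_inj
        ((Kd S.k).mul_mem ((Kd S.k).mul_mem hx huK) ((Kd S.k).inv_mem hx)) hbK e)
      simp only [oddB_mul, code_of h432, code_of hbl, hbo, swap_facts.2.2.1] at e2
      have hi : oddB (x * x⁻¹).c = false := by rw [mul_inv_cancel]; rfl
      rw [oddB_mul] at hi
      revert e2 hi
      cases oddB x.c <;> cases oddB (x⁻¹).c <;> simp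
  have h3kill : ∀ a : G, a ^ 3 = 1 → V a = 1 := fun a ha =>
    eq_one_of_coprime (show Nat.Coprime 3 2 by norm_num) (by rw [← map_pow, ha, map_one]) (zmod_two_sq _)
  have heven : ∀ x ∈ Kd S.k, oddB x.c = false → V (S.f x) = 1 := by
    have h0 : ∀ x ∈ Kd S.k, blk x.c = 0 → V (S.f x) = 1 := by
      intro x hx hb
      obtain ⟨v, hv, b, hbL, hbK, rfl⟩ := blk0_decomp hx hb
      rw [S.f_mul (tr_mem hv) hbK, map_mul, h3kill _ (S.J_cube (S.tr_mem_J hv)), hVb b hbL hbK, one_mul]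
    intro x hx ho
    have hσK : (sg : Mon) ∈ Kd S.k := Kd_mono sg_mem
    have hVσ : V (S.f sg) = 1 := h3kill _ S.σ_cube
    rcases even_decomp ho with h | h | h
    · exact h0 x hx h
    · have := h0 _ ((Kd S.k).mul_mem hx hσK) h
      rwa [S.f_mul hx hσK, map_mul, hVσ, mul_one] at this
    · have := h0 _ ((Kd S.k).mul_mem hx ((Kd S.k).inv_mem hσK)) h
      rwa [S.f_mul hx ((Kd S.k).inv_mem hσK), S.f_inv hσK, map_mul, map_inv, hVσ, inv_one, mul_one] at this
  refine ⟨V.ker, inferInstance, fun x hx => ⟨fun h => ?_, fun h => heven x hx h⟩⟩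
  by_contra ho
  rw [Bool.not_eq_false] at ho
  have hxe : oddB (x * of 432).c = false := by rw [oddB_mul, ho, code_of h432, swap_facts.2.2.1]; rfl
  have e := heven _ ((Kd S.k).mul_mem hx huK) hxe
  rw [S.f_mul hx huK, map_mul, MonoidHom.mem_ker.mp h, one_mul] at e
  exact hVτ e

open scoped IsMulCommutative in
/-- No automizer: Burnside. -/
theorem last_zero (hk : S.k = 0) (G2 : Subgroup G)
    (hG2 : ∀ x ∈ Kd S.k, (S.f x ∈ G2 ↔ blk x.c = 0)) : ∀ g ∈ G2, ∀ j ∈ S.J, g * j * g⁻¹ ∈ S.J := by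
  classical
  haveI : Fact (Nat.Prime 3) := ⟨Nat.prime_three⟩
  have hJ2 : S.J ≤ G2 := fun j hj => by
    obtain ⟨v, hv, rfl⟩ := S.mem_J.mp hj
    exact (hG2 _ (tr_mem hv)).mpr (Nat.eq_of_beq_eq_true ((Bool.and_eq_true _ _).mp
      (show inT (tr v).c = true from mem_Tr.mpr ⟨v, hv, rfl⟩)).1)
  have hN : ∀ g ∈ G2, g ∈ S.Φ.range → g ∈ S.J := by
    intro g hg hgr
    obtain ⟨x, hx, rfl⟩ := S.exists_f hgr
    rw [S.f_mem_J hx]
    show inT x.c = true
    rw [inT, (hG2 x hx).mp hg, Bool.and_eq_true]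
    have := mem_Kd.mp hx
    rw [hk] at this
    exact ⟨Nat.beq_refl _, this⟩
  set P0 : Subgroup G2 := S.J.subgroupOf G2
  have hP0 : IsPGroup 3 P0 := S.J_pgroup.comap_of_injective G2.subtype G2.subtype_injective
  have hnormP : ∀ g : G2, g ∈ Subgroup.normalizer (P0 : Set G2) → (g : G) ∈ S.J := fun g hg =>
    hN g g.2 (S.mem_range_of_normalizes fun j hj =>
      (Subgroup.mem_normalizer_iff.mp hg ⟨j, hJ2 hj⟩).mp hj)
  let P : Sylow 3 G2 := ⟨P0, hP0, fun {Q} hQ hle => eq_of_normalizing hQ hle fun g _ hg =>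
    hnormP g (mem_normalizer_of_le _ hg)⟩
  have hle : Subgroup.normalizer ((P : Subgroup G2) : Set G2) ≤ Subgroup.centralizer ((P : Subgroup G2) : Set G2) :=
    fun g hg => Subgroup.mem_centralizer_iff.mpr fun q hq => Subtype.ext (S.J_comm hq (hnormP g hg))
  obtain ⟨K, hKn, hK3', hcomp⟩ : ∃ K : Subgroup G2, K.Normal ∧ ¬ 3 ∣ Nat.card K ∧
      K.IsComplement' (P : Subgroup G2) :=
    ⟨_, MonoidHom.normal_ker _, MonoidHom.not_dvd_card_ker_transferSylow P hle,
      MonoidHom.ker_transferSylow_isComplement' P hle⟩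
  have hK3 : (Nat.card K).Coprime 3 :=
    Nat.coprime_comm.mp ((Nat.prime_three.coprime_iff_not_dvd).mpr hK3')
  have hKmap : K.map G2.subtype = ⊥ := by
    refine S.sig' _ (by rwa [Subgroup.card_map_of_injective G2.subtype_injective]) fun j hj => ?_
    refine mem_normalizer_of_le _ ?_
    rintro _ ⟨a, ha, rfl⟩
    exact ⟨⟨j, hJ2 hj⟩ * a * ⟨j, hJ2 hj⟩⁻¹, hKn.conj_mem a ha _, rfl⟩
  have hKbot : K = ⊥ := (Subgroup.map_eq_bot_iff_of_injective _ G2.subtype_injective).mp hKmap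
  intro g hg j hj
  have hgP : (⟨g, hg⟩ : G2) ∈ (P : Subgroup G2) := by
    have := hcomp
    rw [hKbot] at this
    rw [Subgroup.isComplement'_bot_left.mp this]
    exact Subgroup.mem_top _
  exact S.conj_mem_J (S.J_le hgP) hj

/-- The four-group automizer: the strongly embedded subgroup is everything. -/
theorem last_two (hk : S.k = 2) (G2 : Subgroup G)
    (hG2 : ∀ x ∈ Kd S.k, (S.f x ∈ G2 ↔ blk x.c = 0)) : ∀ g ∈ G2, ∀ j ∈ S.J, g * j * g⁻¹ ∈ S.J := by
  classical
  have hJ2 : S.J ≤ G2 := fun j hj => by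
    obtain ⟨v, hv, rfl⟩ := S.mem_J.mp hj
    exact (hG2 _ (tr_mem hv)).mpr (Nat.eq_of_beq_eq_true ((Bool.and_eq_true _ _).mp
      (show inT (tr v).c = true from mem_Tr.mpr ⟨v, hv, rfl⟩)).1)
  have hDgK : Dg ≤ Kd S.k := fun x hx => by rw [hk]; exact (mem_Dg.mp hx).1
  have hmemA : ∀ g, g ∈ S.img Dg ↔ g ∈ S.Φ.range ∧ g ∈ G2 := by
    intro g
    rw [S.mem_img hDgK]
    constructor
    · rintro ⟨x, hx, rfl⟩
      exact ⟨S.f_mem (hDgK hx), (hG2 x (hDgK hx)).mpr (mem_Dg.mp hx).2⟩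
    · rintro ⟨hr, h2⟩
      obtain ⟨x, hx, rfl⟩ := S.exists_f hr
      exact ⟨x, mem_Dg.mpr ⟨hk ▸ hx, (hG2 x hx).mp h2⟩, rfl⟩
  have hA2 : S.img Dg ≤ G2 := fun g hg => ((hmemA g).mp hg).2
  set H : Subgroup G2 := (S.img Dg).subgroupOf G2
  have eH : Nonempty (H ≃* Dg.map elHom) :=
    ⟨(Subgroup.subgroupOfEquivOfLe hA2).trans (((Subgroup.equivMapOfInjective _ S.Φ S.inj).symm.trans
      (Subgroup.subgroupOfEquivOfLe hDgK)).trans (Subgroup.equivMapOfInjective _ elHom el_injective))⟩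
  rw [Dg_map] at eH
  have hA := S.allCN_of_ne_three (show S.k ≠ 3 by simp [hk])
  have htop := Cfsg.Agent.S3701.result H eH (S.J.subgroupOf G2)
    (fun a ha => (hmemA a).mpr ⟨S.J_le ha, a.2⟩)
    (by rw [Nat.card_congr (Subgroup.subgroupOfEquivOfLe hJ2).toEquiv, S.card_J]) ?_ ?_
  · intro g hg j hj
    have hgH : (⟨g, hg⟩ : G2) ∈ H := htop.ge (Subgroup.mem_top _)
    exact S.conj_mem_J ((hmemA g).mp hgH).1 hj
  · refine le_antisymm ?_ ?_
    · intro g hg
      exact (hmemA g.1).mpr ⟨S.mem_range_of_normalizes fun j hj =>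
        (Subgroup.mem_normalizer_iff.mp hg ⟨j, hJ2 hj⟩).mp hj, g.2⟩
    · intro g hg
      exact mem_normalizer_of_le _ fun m hm => S.conj_mem_J ((hmemA g.1).mp hg).1 hm
  · intro t ht ht1 g hg
    obtain ⟨v, hv, e⟩ := S.mem_J.mp ht
    have hv0 : v ≠ 0 := by
      rintro rfl
      rw [tr_zero, S.f_one] at e
      exact ht1 (Subtype.ext e)
    refine (hmemA g).mpr ⟨hA v hv hv0 g ?_, g.2⟩
    rw [← e]
    exact congrArg Subtype.val (Subgroup.mem_centralizer_singleton_iff.mp hg)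

/-- Kinds zero and two. -/
theorem normal_even (hk : S.k = 0 ∨ S.k = 2) : S.J.Normal := by
  obtain ⟨G1, hn, hG1⟩ := S.step_one hk
  obtain ⟨G2, -, hn2, hG2⟩ := S.step_two (by rcases hk with h | h <;> simp [h]) G1 hG1 (S.no_inverter hk)
  have hlast : ∀ g ∈ G2, ∀ j ∈ S.J, g * j * g⁻¹ ∈ S.J := by
    rcases hk with h | h
    exacts [S.last_zero h G2 hG2, S.last_two h G2 hG2]
  have hblk : ∀ v < 27, blk (tr v).c = 0 := fun v hv => Nat.eq_of_beq_eq_true ((Bool.and_eq_true _ _).mp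
    (show inT (tr v).c = true from mem_Tr.mpr ⟨v, hv, rfl⟩)).1
  have hJ2 : S.J ≤ G2 := fun j hj => by
    obtain ⟨v, hv, rfl⟩ := S.mem_J.mp hj
    exact (hG2 _ (tr_mem hv)).mpr (hblk v hv)
  have hJ1 : S.J ≤ G1 := fun j hj => by
    obtain ⟨v, hv, rfl⟩ := S.mem_J.mp hj
    exact (hG1 _ (tr_mem hv)).mpr (by rw [oddB, hblk v hv]; rfl)
  have h1 := S.normal_step hJ2 hn2 hlast
  exact ⟨fun n hn' g => S.normal_step hJ1 (L := ⊤) (fun g _ x hx => hn.conj_mem x hx g) h1 g
    (Subgroup.mem_top g) n hn'⟩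

end Setup

end CfsgLib.SymNineThree
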