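import Cfsg.Agent.Lib.SymNineThree.FlipA
import Cfsg.Agent.S3339
import Cfsg.Agent.S2119

/-!
Recognition of the symmetric group of degree nine from its alternating subgroup.
-/

set_option autoImplicit false
set_option maxRecDepth 20000
set_option linter.style.haveILetI false

namespace CfsgLib.SymNineThree

open Mon Equiv

attribute [local instance 2000] List.decidableBAll List.decidableBEx

/-- The subgroup generated by the three cycles. -/
def J9 : Subgroup (Perm (Fin 9)) :=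
  Subgroup.closure {swap (0 : Fin 9) 1 * swap 1 2, swap (3 : Fin 9) 4 * swap 4 5, swap (6 : Fin 9) 7 * swap 7 8}

theorem final_facts :
    (∀ v : Fin 27, (∀ n : Fin 9, el (tr (v : ℕ)) n ≠ n) →
      ∃ b ∈ ([0, 3, 18, 21, 108, 111, 126, 129] : List ℕ), (of b : Mon) * zE * (of b)⁻¹ = tr (v : ℕ)) ∧
    (∀ n : Fin 9, el zE n ≠ n) ∧
    ((List.range 1296).all fun x => inT x || !Nat.beq (cubeM x) 0 ||
      (List.range 1296).any fun c => Nat.beq (mulM (mulM c x) (invM c)) 648) = true ∧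
    el (tr 1) = swap (0 : Fin 9) 1 * swap 1 2 ∧ el (tr 3) = swap (3 : Fin 9) 4 * swap 4 5 ∧
    el (tr 9) = swap (6 : Fin 9) 7 * swap 7 8 ∧
    (∀ v : Fin 27, tr (v : ℕ) = tr 1 ^ ((v : ℕ) % 3) * tr 3 ^ ((v : ℕ) / 3 % 3) * tr 9 ^ ((v : ℕ) / 9)) := by
  refine ⟨?_, ?_, ?_, ?_, ?_, ?_, ?_⟩ <;> decide +kernel

theorem sign_facts :
    Equiv.Perm.sign (el (of 108)) = -1 ∧ Equiv.Perm.sign (el (of 432)) = -1 ∧
    Equiv.Perm.sign (el sg) = 1 ∧ ∀ v : Fin 27, Equiv.Perm.sign (el (tr (v : ℕ))) = 1 := by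
  refine ⟨?_, ?_, ?_, ?_⟩ <;> decide +kernel

/-- The sign on codes is the sign of the permutation. -/
theorem sign_el (x : Mon) : Equiv.Perm.sign (el x) = 1 ↔ sgA x = 1 := by
  let ψ : Multiplicative (ZMod 2) →* ℤˣ := MonoidHom.mk' (fun t => if t = 1 then 1 else -1) (by decide +kernel)
  let χ : Mon →* Multiplicative (ZMod 2) := MonoidHom.mk' sgA sgA_mul
  have h : Equiv.Perm.sign (el x) = ψ (sgA x) := by
    obtain ⟨f1, f2, f3, f4, -⟩ := flipA_facts
    refine mon_gen (MonoidHom.eqLocus (Equiv.Perm.sign.comp elHom) (ψ.comp χ)) ?_ ?_ ?_ (fun v hv => ?_) x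
    · show Equiv.Perm.sign (el (of 108)) = ψ (sgA (of 108))
      rw [sign_facts.1, f1]; rfl
    · show Equiv.Perm.sign (el (of 432)) = ψ (sgA (of 432))
      rw [sign_facts.2.1, f2]; rfl
    · show Equiv.Perm.sign (el sg) = ψ (sgA sg)
      rw [sign_facts.2.2.1, f3, map_one]
    · show Equiv.Perm.sign (el (tr v)) = ψ (sgA (tr v))
      rw [sign_facts.2.2.2 ⟨v, hv⟩, f4 ⟨v, hv⟩, map_one]
  rw [h]
  generalize sgA x = t
  show (if t = 1 then (1 : ℤˣ) else -1) = 1 ↔ t = 1
  split_ifs with e <;> simp [e]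

theorem J9_eq : J9 = Tr.map elHom := by
  refine le_antisymm ((Subgroup.closure_le _).mpr ?_) ?_
  · intro y hy
    simp only [Set.mem_insert_iff, Set.mem_singleton_iff] at hy
    rcases hy with rfl | rfl | rfl
    · exact ⟨tr 1, mem_Tr.mpr ⟨1, by norm_num, rfl⟩, final_facts.2.2.2.1⟩
    · exact ⟨tr 3, mem_Tr.mpr ⟨3, by norm_num, rfl⟩, final_facts.2.2.2.2.1⟩
    · exact ⟨tr 9, mem_Tr.mpr ⟨9, by norm_num, rfl⟩, final_facts.2.2.2.2.2.1⟩
  · rintro _ ⟨x, hx, rfl⟩
    obtain ⟨v, hv, rfl⟩ := mem_Tr.mp hx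
    rw [final_facts.2.2.2.2.2.2 ⟨v, hv⟩, map_mul, map_mul, map_pow, map_pow, map_pow,
      show elHom (tr 1) = _ from final_facts.2.2.2.1, show elHom (tr 3) = _ from final_facts.2.2.2.2.1,
      show elHom (tr 9) = _ from final_facts.2.2.2.2.2.1]
    exact mul_mem (mul_mem (pow_mem (Subgroup.subset_closure (by simp)) _)
      (pow_mem (Subgroup.subset_closure (by simp)) _)) (pow_mem (Subgroup.subset_closure (by simp)) _)

/-- The normalizer of the three cycles consists of codes. -/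
theorem normalizer_J9 : Subgroup.normalizer (J9 : Set (Perm (Fin 9))) = elHom.range := by
  refine le_antisymm (fun g hg => ?_) ?_
  · rw [J9_eq] at hg
    obtain ⟨y, hy, e⟩ := (Subgroup.mem_normalizer_iff.mp hg (elHom zE)).mp
      ⟨zE, mem_Tr.mpr ⟨13, by norm_num, rfl⟩, rfl⟩
    obtain ⟨v, hv, rfl⟩ := mem_Tr.mp hy
    have hfp : ∀ n, el (tr v) n ≠ n := by
      intro n h
      have h' := Equiv.congr_fun e n
      change el (tr v) n = g (el zE (g⁻¹ n)) at h'
      rw [h] at h'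
      refine final_facts.2.1 (g⁻¹ n) ?_
      calc el zE (g⁻¹ n) = g⁻¹ (g (el zE (g⁻¹ n))) := (g.symm_apply_apply _).symm
        _ = g⁻¹ n := by rw [← h']
    obtain ⟨b, -, hb⟩ := final_facts.1 ⟨v, hv⟩ hfp
    have hc : (elHom (of b))⁻¹ * g ∈ Subgroup.centralizer ({el zE} : Set (Perm (Fin 9))) := by
      refine Subgroup.mem_centralizer_singleton_iff.mpr ?_
      have e2 : elHom (of b) * elHom zE * (elHom (of b))⁻¹ = g * elHom zE * g⁻¹ := by
        rw [← map_inv, ← map_mul, ← map_mul, hb]; exact e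
      calc (elHom (of b))⁻¹ * g * elHom zE = (elHom (of b))⁻¹ * (g * elHom zE * g⁻¹) * g := by group
        _ = (elHom (of b))⁻¹ * (elHom (of b) * elHom zE * (elHom (of b))⁻¹) * g := by rw [e2]
        _ = el zE * ((elHom (of b))⁻¹ * g) := by
          show _ = elHom zE * _
          group
    rw [centralizer_el_zE] at hc
    obtain ⟨a, -, ha⟩ := hc
    exact ⟨of b * a, by rw [map_mul, ha, mul_inv_cancel_left]⟩
  · rintro _ ⟨x, rfl⟩
    refine mem_normalizer_of_le _ ?_
    rw [J9_eq]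
    rintro _ ⟨y, hy, rfl⟩
    exact ⟨x * y * x⁻¹, conj_tr_mem x hy, by rw [map_mul, map_mul, map_inv]⟩

namespace Setup

universe w

variable {G : Type w} [Group G] [Finite G] {S : Setup G}

namespace Comp

variable (P : S.Comp) (hk : S.k = 3)
include P hk

/-- The symmetric group of degree nine. -/
theorem normal_or_sym : S.J.Normal ∨ Nonempty (G ≃* Perm (Fin 9)) := by
  classical
  haveI : Fact (Nat.Prime 3) := ⟨Nat.prime_three⟩
  have hm := fun x : Mon => S.mem_three hk x
  obtain ⟨V, hV⟩ := P.exists_sign hk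
  obtain ⟨g0, hg0⟩ := P.σ_into_J hk
  set G0 := V.ker
  have hJ0 : S.J ≤ G0 := fun j hj => MonoidHom.mem_ker.mpr (eq_one_of_coprime (show Nat.Coprime 3 2 by norm_num)
    (by rw [← map_pow, S.J_cube hj, map_one]) (zmod_two_sq _))
  haveI hG0n : G0.Normal := MonoidHom.normal_ker V
  set J' := S.J.subgroupOf G0
  have hJ'c : IsMulCommutative J' := ⟨⟨fun a b => Subtype.ext (Subtype.ext (S.J_comm a.2 b.2))⟩⟩
  have hJ'e : ∀ a ∈ J', a ^ 3 = 1 := fun a ha => Subtype.ext (by simpa using S.J_cube ha)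
  have hJ'card : Nat.card J' = 27 := by
    rw [Nat.card_congr (Subgroup.subgroupOfEquivOfLe hJ0).toEquiv, S.card_J]
  set H := Subgroup.normalizer (J' : Set G0)
  have hH : ∀ a : G0, a ∈ H → (a : G) ∈ S.Φ.range := fun a ha => S.mem_range_of_normalizes fun j hj =>
    Subgroup.mem_subgroupOf.mp ((Subgroup.mem_normalizer_iff.mp ha ⟨j, hJ0 hj⟩).mp (Subgroup.mem_subgroupOf.mpr hj))
  have hH' : ∀ a : G0, (a : G) ∈ S.Φ.range → a ∈ H := fun a ha =>
    mem_normalizer_of_le _ fun j hj => Subgroup.mem_subgroupOf.mpr (S.conj_mem_J ha (Subgroup.mem_subgroupOf.mp hj))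
  -- the local subgroup
  let χ : Mon →* Multiplicative (ZMod 2) := MonoidHom.mk' sgA sgA_mul
  have hf0 : ∀ x : χ.ker, S.f x.1 ∈ G0 := fun x => MonoidHom.mem_ker.mpr ((hV _).trans x.2)
  let F : χ.ker →* H := MonoidHom.mk' (fun x => ⟨⟨S.f x.1, hf0 x⟩, hH' _ (S.f_mem (hm _))⟩) fun x y =>
    Subtype.ext (Subtype.ext (S.f_mul (hm _) (hm _)))
  have hF : Function.Bijective F := by
    refine ⟨fun x y e => Subtype.ext (S.f_inj (hm _) (hm _) (congrArg (fun a : H => ((a : G0) : G)) e)),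
      fun a => ?_⟩
    obtain ⟨x, -, hx⟩ := S.exists_f (hH _ a.2)
    refine ⟨⟨x, MonoidHom.mem_ker.mpr ?_⟩, Subtype.ext (Subtype.ext hx.symm)⟩
    show sgA x = 1
    rw [← hV, ← hx]
    exact (a : G0).2
  have hEl : χ.ker.map elHom = alternatingGroup (Fin 9) ⊓ Subgroup.normalizer (J9 : Set (Perm (Fin 9))) := by
    rw [normalizer_J9]
    ext g
    constructor
    · rintro ⟨x, hx, rfl⟩
      exact ⟨Equiv.Perm.mem_alternatingGroup.mpr ((sign_el x).mpr hx), x, rfl⟩
    · rintro ⟨hg, x, rfl⟩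
      exact ⟨x, MonoidHom.mem_ker.mpr ((sign_el x).mp (Equiv.Perm.mem_alternatingGroup.mp hg)), rfl⟩
  let eH : H ≃* ↥(alternatingGroup (Fin 9) ⊓ Subgroup.normalizer (J9 : Set (Perm (Fin 9)))) :=
    ((MulEquiv.ofBijective F hF).symm.trans (Subgroup.equivMapOfInjective χ.ker elHom el_injective)).trans
      (MulEquiv.subgroupCongr hEl)
  have hcores : ∀ a ∈ H, orderOf a = 3 →
      Cfsg.pPrimeCore 3 (Subgroup.centralizer ({a} : Set G0)) = ⊥ := by
    intro a ha ho
    obtain ⟨x, -, hx⟩ := S.exists_f (hH a ha)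
    have hx3 : x ^ 3 = 1 := S.f_eq_one ((Kd S.k).pow_mem (hm x) _) (by
      rw [S.f_pow (hm x), ← hx, ← SubgroupClass.coe_pow, ← ho, pow_orderOf_eq_one]; rfl)
    obtain ⟨m, hmJ⟩ : ∃ m : G, m * (a : G) * m⁻¹ ∈ S.J := by
      have h := all_mon final_facts.2.2.1 x
      rw [← code_cube, hx3, code_one] at h
      simp only [Nat.beq_refl, Bool.not_true, Bool.or_false, Bool.or_eq_true, List.any_eq_true,
        List.mem_range, Nat.beq_eq] at h
      rcases h with h | ⟨c, hc, h⟩
      · exact ⟨1, by rw [one_mul, inv_one, mul_one, hx, S.f_mem_J (hm x)]; exact h⟩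
      · refine ⟨g0 * S.f (of c), ?_⟩
        have e : of c * x * (of c)⁻¹ = sg := code_eq.mpr (by
          rw [code_mul, code_mul, code_inv, code_of hc, sg, code_of (show 648 < 1296 by norm_num)]; exact h)
        rw [show g0 * S.f (of c) * (a : G) * (g0 * S.f (of c))⁻¹ =
          g0 * (S.f (of c) * (a : G) * (S.f (of c))⁻¹) * g0⁻¹ by group, hx, ← S.f_conj (hm _) (hm _), e]
        exact hg0
    set C := Subgroup.centralizer ({a} : Set G0)
    set R := ((Cfsg.pPrimeCore 3 C).map C.subtype).map G0.subtype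
    have hR : R.map (MulAut.conj m).toMonoidHom = ⊥ := by
      refine S.sig' _ ?_ ?_
      · rw [Subgroup.card_map_of_injective (MulAut.conj m).injective,
          Subgroup.card_map_of_injective G0.subtype_injective, Subgroup.card_map_of_injective C.subtype_injective]
        exact CfsgLib.Transfer.pPrimeCore_coprime 3
      · intro j hj
        refine mem_normalizer_of_le _ ?_
        rintro _ ⟨_, ⟨r, hr, rfl⟩, rfl⟩
        have hq : m⁻¹ * j * m⁻¹⁻¹ ∈ G0 := hG0n.conj_mem j (hJ0 hj) m⁻¹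
        set q : G0 := ⟨_, hq⟩
        have hqC : q ∈ C := Subgroup.mem_centralizer_singleton_iff.mpr (Subtype.ext (by
          show m⁻¹ * j * m⁻¹⁻¹ * (a : G) = (a : G) * (m⁻¹ * j * m⁻¹⁻¹)
          calc m⁻¹ * j * m⁻¹⁻¹ * (a : G) = m⁻¹ * (j * (m * (a : G) * m⁻¹)) * m := by group
            _ = m⁻¹ * (m * (a : G) * m⁻¹ * j) * m := by rw [S.J_comm hj hmJ]
            _ = _ := by group))
        have hn := le_normalizer_core (p := 3) C C Subgroup.le_normalizer hqC
        refine ⟨_, ⟨q * r * q⁻¹, (Subgroup.mem_normalizer_iff.mp hn r).mp hr, rfl⟩, ?_⟩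
        show m * (m⁻¹ * j * m⁻¹⁻¹ * (r : G) * (m⁻¹ * j * m⁻¹⁻¹)⁻¹) * m⁻¹ = j * (m * (r : G) * m⁻¹) * j⁻¹
        group
    rw [Subgroup.map_eq_bot_iff_of_injective _ (MulAut.conj m).injective,
      Subgroup.map_eq_bot_iff_of_injective _ G0.subtype_injective,
      Subgroup.map_eq_bot_iff_of_injective _ C.subtype_injective] at hR
    exact hR
  rcases Cfsg.Agent.S3339.result J' hJ'c hJ'e hJ'card H rfl J9 rfl eH hcores with htop | ⟨⟨e9⟩⟩
  · refine Or.inl ⟨fun n hn g => S.normal_step hJ0 (L := ⊤)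
      (fun g _ x hx => hG0n.conj_mem x hx g) (fun x hx j hj => ?_) g (Subgroup.mem_top g) n hn⟩
    exact S.conj_mem_J (hH ⟨x, hx⟩ (htop ▸ Subgroup.mem_top _)) hj
  · refine Or.inr ?_
    have hb := Cfsg.Agent.S2119.result 9 (by norm_num) (by norm_num)
    let ψ : G →* Perm (Fin 9) :=
      ((MulEquiv.ofBijective _ hb).symm.toMonoidHom.comp (MulAut.congr e9).toMonoidHom).comp MulAut.conjNormal
    have hinj : Function.Injective ψ := by
      refine (injective_iff_map_eq_one _).mpr fun g hg => ?_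
      have h1 : (MulAut.conjNormal g : MulAut G0) = 1 :=
        (MulAut.congr e9).injective ((MulEquiv.ofBijective _ hb).symm.injective (by
          rw [map_one, map_one]; exact hg))
      have hfix : ∀ a : G0, g * (a : G) = (a : G) * g := fun a => by
        have e := congrArg (fun φ : MulAut G0 => ((φ a : G0) : G)) h1
        simp only [MulAut.conjNormal_apply, MulAut.one_apply] at e
        exact mul_inv_eq_iff_eq_mul.mp e
      have hgJ : g ∈ S.J := S.cent_J fun j hj => hfix ⟨j, hJ0 hj⟩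
      set g' : G0 := ⟨g, hJ0 hgJ⟩
      have h2 : (MulAut.conjNormal ((e9 g' : alternatingGroup (Fin 9)) : Perm (Fin 9)) :
          MulAut (alternatingGroup (Fin 9))) = 1 := by
        refine MulEquiv.ext fun b => Subtype.ext ?_
        obtain ⟨b', rfl⟩ := e9.surjective b
        rw [MulAut.conjNormal_apply, MulAut.one_apply, mul_inv_eq_iff_eq_mul, ← Subgroup.coe_mul,
          ← Subgroup.coe_mul, ← map_mul, ← map_mul, show g' * b' = b' * g' from Subtype.ext (hfix b')]
      have h3 : e9 g' = 1 := Subtype.ext (hb.1 (h2.trans (map_one _).symm))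
      exact congrArg Subtype.val (e9.injective (h3.trans (map_one e9).symm))
    have hcard : Nat.card G = Nat.card (Perm (Fin 9)) := by
      have h1 := G0.card_mul_index
      have hne : V (S.f (of 108)) ≠ 1 := by
        rw [hV, flipA_facts.1]; exact two_values.2
      have h2 : G0.index = 2 := by
        haveI : Fact (Nat.Prime 2) := ⟨Nat.prime_two⟩
        exact (exists_kernel V (p := 2) (by rw [Nat.card_congr Multiplicative.toAdd, Nat.card_zmod]) hne).2.1
      rw [h2, Nat.card_congr e9.toEquiv, mul_comm] at h1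
      rw [← h1, two_mul_nat_card_alternatingGroup]
    exact ⟨MulEquiv.ofBijective ψ ((Nat.bijective_iff_injective_and_card ψ).mpr ⟨hinj, hcard⟩)⟩

end Comp

end Setup

end CfsgLib.SymNineThree
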