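import Cfsg.Agent.Lib.SymNineThree.InvolSub
import Cfsg.Agent.Lib.SymNineThree.CaseEven

/-!
The last kind with all centralizers of elements of `J` small.
-/

set_option autoImplicit false
set_option maxRecDepth 20000
set_option linter.style.haveILetI false

namespace CfsgLib.SymNineThree

open Mon

attribute [local instance 2000] List.decidableBAll List.decidableBEx

/-- Parity of the flips. -/
def parF (x : ℕ) : Bool := xor (xor (flipM x 0) (flipM x 1)) (flipM x 2)

theorem par_facts : ∀ (q : Fin 6) (a0 a1 a2 b0 b1 b2 : Bool),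
    let b : ℕ → Bool := fun i => cond (Nat.beq i 0) b0 (cond (Nat.beq i 1) b1 b2)
    xor (xor (xor a0 (b (pEv q 0))) (xor a1 (b (pEv q 1)))) (xor a2 (b (pEv q 2))) =
      xor (xor (xor a0 a1) a2) (xor (xor b0 b1) b2) := by decide +kernel

theorem parF_mul (x y : Mon) : parF (x * y).c = xor (parF x.c) (parF y.c) := by
  have key : ∀ i < 3, flipM (x * y).c i = xor (flipM x.c i) (flipM y.c (pEv (pInv (blk x.c)) i)) :=
    fun i hi => by
      show Nat.ble 3 (cmp (x * y).c i) = _
      rw [cmp_mul _ _ hi]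
      exact flip_sMul ⟨_, cmp_lt _ _⟩ ⟨_, cmp_lt _ _⟩
  have hq := pInv_lt (blk_lt x.c)
  have hb : ∀ i < 3, flipM y.c i =
      cond (Nat.beq i 0) (flipM y.c 0) (cond (Nat.beq i 1) (flipM y.c 1) (flipM y.c 2)) := by
    intro i hi; interval_cases i <;> rfl
  simp only [parF]
  rw [key 0 (by norm_num), key 1 (by norm_num), key 2 (by norm_num),
    hb _ (pEv_lt hq (by norm_num : 0 < 3)), hb _ (pEv_lt hq (by norm_num : 1 < 3)),
    hb _ (pEv_lt hq (by norm_num : 2 < 3))]
  exact par_facts ⟨_, hq⟩ _ _ _ _ _ _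

/-- The parity as a character. -/
def parH (x : Mon) : Multiplicative (ZMod 2) := Multiplicative.ofAdd (cond (parF x.c) 1 0)

theorem parH_mul (x y : Mon) : parH (x * y) = parH x * parH y := by
  rw [parH, parH, parH, parF_mul]
  cases parF x.c <;> cases parF y.c <;> decide

theorem parH_eq_one {x : Mon} : parH x = 1 ↔ parF x.c = false := by
  rw [parH]; cases parF x.c <;> decide

set_option maxHeartbeats 2000000 in
theorem eight_facts :
    ((List.range 1296).all fun x => !parF x || !Nat.beq (mulM x x) 0 ||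
      conjTo 3 108 x || conjTo 3 129 x || conjTo 3 540 x) = true ∧
    ((List.range 1296).all fun x => !Nat.beq (mulM (mulM x 108) (invM x)) 540 &&
      !Nat.beq (mulM (mulM x 108) (invM x)) 432 && !Nat.beq (mulM (mulM x 432) (invM x)) 540) = true ∧
    ((List.range 1296).all fun x => !inK 2 x || !parF x) = true ∧
    ((List.range 1296).all fun x => inK 2 x || parF x) = true ∧
    ((List.range 1296).all fun x => flL.any fun b =>
      inT (mulM (mulM x b) (invM (Nat.mul 216 (blk x)))) || inT (mulM (mulM x (invM (Nat.mul 216 (blk x)))) b)) = true ∧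
    (9 : ℕ) ∈ jL 432 ∧ (4 : ℕ) ∈ jL 540 ∧ (1 : ℕ) ∈ jL 108 ∧ (4 : ℕ) ∈ jL 432 ∧
    (of 129 : Mon) * sg = sg * of 129 ∧ (of 129 : Mon) * of 129 = 1 := by
  refine ⟨?_, ?_, ?_, ?_, ?_, ?_, ?_, ?_, ?_, ?_, ?_⟩ <;> decide +kernel

theorem card_cent_code {n m : ℕ} (hn : n < 1296)
    (h : Fintype.card {c : Fin 1296 // Nat.beq (mulM c n) (mulM n c) = true} = m) :
    Nat.card (Subgroup.centralizer ({of n} : Set Mon)) = m := by
  rw [← h, ← Nat.card_eq_fintype_card]
  refine Nat.card_congr (Equiv.subtypeEquiv ⟨Mon.c, Mon.mk, fun _ => rfl, fun _ => rfl⟩ fun x => ?_)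
  rw [Subgroup.mem_centralizer_singleton_iff, comm_iff, code_of hn]
  show _ ↔ Nat.beq (mulM x.c n) (mulM n x.c) = true
  rw [Nat.beq_eq]

theorem card_cent_129 : Nat.card (Subgroup.centralizer ({of 129} : Set Mon)) = 48 :=
  card_cent_code (by norm_num) (by decide +kernel)

theorem card_cent_432 : Nat.card (Subgroup.centralizer ({of 432} : Set Mon)) = 72 :=
  card_cent_code (by norm_num) (by decide +kernel)

theorem six_invol_cent (q : Equiv.Perm (Fin 6)) (hq : q * q = 1) (h1 : q ≠ 1) :
    16 ∣ Nat.card (Subgroup.centralizer ({q} : Set (Equiv.Perm (Fin 6)))) := by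
  haveI : Fact (Nat.Prime 2) := ⟨Nat.prime_two⟩
  have ho : orderOf q = 2 := orderOf_eq_prime (by rw [pow_two, hq]) h1
  obtain ⟨n, hn⟩ := Equiv.Perm.cycleType_prime_order (σ := q) (by rw [ho]; exact Nat.prime_two)
  rw [ho] at hn
  have hs := q.sum_cycleType
  have hle := Finset.card_le_univ q.support
  rw [← hs, hn, Multiset.sum_replicate] at hle
  simp only [smul_eq_mul, Fintype.card_fin] at hle
  have hn2 : n ≤ 2 := by omega
  rw [Equiv.Perm.nat_card_centralizer, hn]
  interval_cases n <;> decide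

namespace Setup

universe w

variable {G : Type w} [Group G] [Finite G] (S : Setup G)

section Three

variable (hk : S.k = 3)
include hk

theorem three108 : threeOK S.k 108 = true := by rw [hk]; decide +kernel
theorem three432' : threeOK S.k 432 = true := by rw [hk]; decide +kernel

theorem class_apart {u v : ℕ} (hu : u < 1296) (hv : v < 1296)
    (h : ((List.range 1296).all fun x => !Nat.beq (mulM (mulM x u) (invM x)) v) = true) {g : G}
    (hg : g ∈ S.Φ.range) : g * S.f (of u) * g⁻¹ ≠ S.f (of v) := by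
  intro e
  obtain ⟨x, hx, rfl⟩ := S.exists_f hg
  rw [← S.f_conj hx (S.mem_three hk _)] at e
  have e2 := congrArg (fun y : Mon => (y.c : ℕ)) (S.f_inj (S.mem_three hk _) (S.mem_three hk _) e)
  simp only [code_mul, code_inv, code_of hu, code_of hv] at e2
  have h' := all_mon h x
  rw [e2] at h'
  simp at h'

/-- The two kinds of elements of `C(u)` exclude `S₆`. -/
theorem flip_cent (hA : S.AllCN) : ∀ g : G, g * S.f (of 108) = S.f (of 108) * g → g ∈ S.Φ.range := by
  classical
  have hcw := S.cent_swap_three hk fun v hv h0 => hA v (mem_jL.mp hv).1 h0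
  set u := S.f (of 108) with hu_def
  set w := S.f (of 432) with hw_def
  set H := Subgroup.centralizer ({u} : Set G) with hH_def
  rcases S.cent_flip_three hk (fun v hv h0 => hA v (mem_jL.mp hv).1 h0) with h | ⟨π, hπ, hker⟩
  · exact h
  exfalso
  have h108 := S.mem_three hk (of 108)
  have h432 := S.mem_three hk (of 432)
  have hwH : w ∈ H := Subgroup.mem_centralizer_singleton_iff.mpr ((S.f_comm h432 h108).mpr (by decide +kernel))
  set ww : H := ⟨w, hwH⟩
  have huu : u * u = 1 := by
    show S.f (of 108) * S.f (of 108) = 1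
    rw [← S.f_mul h108 h108, show of 108 * of 108 = (1 : Mon) from by decide +kernel, S.f_one]
  have hu1 : u ≠ 1 := fun e => absurd (S.f_eq_one h108 e) (by decide +kernel)
  have hker' : ∀ z : H, π z = 1 → (z : G) = 1 ∨ (z : G) = u := by
    intro z hz
    have hz' : z ∈ π.ker := MonoidHom.mem_ker.mpr hz
    rw [hker, Subgroup.mem_subgroupOf] at hz'
    obtain ⟨i, hi⟩ := hz'
    rcases Int.even_or_odd' i with ⟨j, rfl | rfl⟩
    · left; rw [← hi]; show u ^ (2 * j) = 1; rw [zpow_mul, zpow_two, huu, one_zpow]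
    · right; rw [← hi]; show u ^ (2 * j + 1) = u
      rw [zpow_add, zpow_mul, zpow_two, huu, one_zpow, one_mul, zpow_one]
  have hkc : Nat.card π.ker = 2 := by
    rw [hker, Nat.card_congr (Subgroup.subgroupOfEquivOfLe (Subgroup.zpowers_le.mpr
      (Subgroup.mem_centralizer_singleton_iff.mpr rfl : u ∈ H))).toEquiv, Nat.card_zpowers,
      orderOf_eq_prime (by rw [pow_two, huu]) hu1]
  set q := π ww
  have hqq : q * q = 1 := by
    rw [← map_mul, show ww * ww = 1 from Subtype.ext (show S.f (of 432) * S.f (of 432) = 1 by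
      rw [← S.f_mul h432 h432, show of 432 * of 432 = (1 : Mon) from by decide +kernel, S.f_one]), map_one]
  have hq1 : q ≠ 1 := fun e => by
    rcases hker' ww e with h | h
    · exact absurd (S.f_eq_one h432 h) (by decide +kernel)
    · exact absurd (S.f_inj h432 h108 h) (by decide +kernel)
  set Cq := Subgroup.centralizer ({q} : Set (Equiv.Perm (Fin 6)))
  have h16 : 16 ∣ Nat.card Cq := six_invol_cent q hqq hq1
  have h3 : 3 ∣ Nat.card Cq := by
    let j : H := ⟨S.f (tr 4), Subgroup.mem_centralizer_singleton_iff.mpr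
      ((S.f_comm (tr_mem (by norm_num)) h108).mpr (by decide +kernel))⟩
    have hj : π j ∈ Cq := Subgroup.mem_centralizer_singleton_iff.mpr (by
      rw [← map_mul, ← map_mul]
      exact congrArg π (Subtype.ext ((S.f_comm (tr_mem (by norm_num)) h432).mpr (by decide +kernel))))
    have hj3 : orderOf (⟨π j, hj⟩ : Cq) = 3 := by
      haveI : Fact (Nat.Prime 3) := ⟨Nat.prime_three⟩
      refine orderOf_eq_prime (Subtype.ext ?_) fun e => ?_
      · show (π j) ^ 3 = 1
        rw [← map_pow, show j ^ 3 = 1 from Subtype.ext (S.J_cube (S.tr_mem_J (show 4 < 27 by norm_num))), map_one]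
      · rcases hker' j (congrArg Subtype.val e) with h | h
        · exact absurd (S.f_eq_one (tr_mem (by norm_num)) h) (by decide +kernel)
        · exact absurd (S.f_inj (tr_mem (by norm_num)) h108 h) (by decide +kernel)
    exact hj3 ▸ orderOf_dvd_natCard _
  set H' := Cq.comap π
  have hH' : Nat.card H' = Nat.card Cq * 2 := by
    have h1 := H'.card_mul_index
    have h2 := Cq.card_mul_index
    have h3' := π.ker.card_mul_index
    rw [Subgroup.index_ker, Nat.card_congr (Equiv.subtypeUnivEquiv (fun x => hπ x) :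
      π.range ≃ Equiv.Perm (Fin 6)), hkc] at h3'
    rw [Subgroup.index_comap_of_surjective Cq hπ] at h1
    refine Nat.eq_of_mul_eq_mul_right (Nat.pos_of_ne_zero (Cq.index_ne_zero_of_finite)) ?_
    rw [h1, ← h3', ← h2]; ring
  set L := (List.range 1296).filter fun x => inC 3 108 x && Nat.beq (mulM x 432) (mulM 432 x)
  set A : Finset G := L.toFinset.image fun x => S.f (of x)
  have hA24 : A.card ≤ 24 := by
    refine Finset.card_image_le.trans ((List.toFinset_card_le _).trans (le_of_eq ?_))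
    decide +kernel
  have hAmem : ∀ g : G, g * u = u * g → g * w = w * g → g ∈ A := by
    intro g hgu hgw
    obtain ⟨x, hx, rfl⟩ := S.exists_f (hcw g hgw)
    refine Finset.mem_image.mpr ⟨(x.c : ℕ), List.mem_toFinset.mpr (List.mem_filter.mpr
      ⟨List.mem_range.mpr x.c.isLt, ?_⟩), by rw [of_c]⟩
    rw [Bool.and_eq_true, inC, Bool.and_eq_true, Nat.beq_eq, Nat.beq_eq]
    have e1 := comm_iff.mp ((S.f_comm hx h108).mp hgu)
    have e2 := comm_iff.mp ((S.f_comm hx h432).mp hgw)
    rw [code_of (show 108 < 1296 by norm_num)] at e1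
    rw [code_of (show 432 < 1296 by norm_num)] at e2
    exact ⟨⟨rfl, e1.symm⟩, e2⟩
  have hsplit : ∀ g : H, g ∈ H' → (g : G) * w * (g : G)⁻¹ = w ∨ (g : G) * w * (g : G)⁻¹ = u * w := by
    intro g hg
    have e : π (g * ww * g⁻¹ * ww⁻¹) = 1 := by
      rw [map_mul, map_mul, map_mul, map_inv, map_inv, Subgroup.mem_centralizer_singleton_iff.mp hg,
        mul_inv_cancel_right, mul_inv_cancel]
    rcases hker' _ e with h | h
    · exact Or.inl (mul_inv_eq_one.mp h)
    · exact Or.inr (mul_inv_eq_iff_eq_mul.mp h)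
  have hgu : ∀ g : H, (g : G) * u = u * (g : G) := fun g => Subgroup.mem_centralizer_singleton_iff.mp g.2
  have h48 : Nat.card H' ≤ 48 := by
    rw [← SetLike.coe_sort_coe, Nat.card_coe_set_eq,
      ← Set.ncard_image_of_injective _ H.subtype_injective]
    by_cases hex : ∃ g0 : H, g0 ∈ H' ∧ (g0 : G) * w * (g0 : G)⁻¹ = u * w
    · obtain ⟨g0, hg0, e0⟩ := hex
      refine le_trans (Set.ncard_le_ncard (t := ((A ∪ A.image fun a => (g0 : G) * a : Finset G) : Set G)) ?_
        (Finset.finite_toSet _)) ?_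
      · rintro _ ⟨g, hg, rfl⟩
        rw [Finset.mem_coe, Finset.mem_union]
        rcases hsplit g hg with e | e
        · exact Or.inl (hAmem _ (hgu g) (mul_inv_eq_iff_eq_mul.mp e))
        · refine Or.inr (Finset.mem_image.mpr ⟨(g0 : G)⁻¹ * (g : G), hAmem _ (hgu (g0⁻¹ * g)) ?_,
            mul_inv_cancel_left _ _⟩)
          calc (g0 : G)⁻¹ * (g : G) * w = (g0 : G)⁻¹ * ((g : G) * w * (g : G)⁻¹) * (g : G) := by group
            _ = (g0 : G)⁻¹ * ((g0 : G) * w * (g0 : G)⁻¹) * (g : G) := by rw [e, e0]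
            _ = w * ((g0 : G)⁻¹ * (g : G)) := by group
      · rw [Set.ncard_coe_finset]
        exact (Finset.card_union_le _ _).trans (by
          have := Finset.card_image_le (s := A) (f := fun a => (g0 : G) * a); omega)
    · refine le_trans (Set.ncard_le_ncard (t := (A : Set G)) ?_ (Finset.finite_toSet _)) ?_
      · rintro _ ⟨g, hg, rfl⟩
        exact hAmem _ (hgu g) (mul_inv_eq_iff_eq_mul.mp ((hsplit g hg).resolve_right fun e => hex ⟨g, hg, e⟩))
      · rw [Set.ncard_coe_finset]; omega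
  have h48' := Nat.le_of_dvd (Nat.card_pos) (Nat.Coprime.mul_dvd_of_dvd_of_dvd (by norm_num) h16 h3)
  omega

/-- The triple flip is no conjugate of the swap. -/
theorem flips_not_swap (hA : S.AllCN) (m : G) : m * S.f (of 432) * m⁻¹ ≠ S.f (of 129) := by
  intro e
  have hcw := S.cent_swap_three hk fun v hv h0 => hA v (mem_jL.mp hv).1 h0
  have hle : ∀ n, Subgroup.centralizer ({of n} : Set Mon) ≤ Kd S.k := fun n x _ => S.mem_three hk x
  have h : (S.img (Subgroup.centralizer ({of 129} : Set Mon))).map (MulAut.conj m⁻¹).toMonoidHom ≤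
      S.img (Subgroup.centralizer ({of 432} : Set Mon)) := by
    rintro _ ⟨g, hg, rfl⟩
    obtain ⟨x, hx, rfl⟩ := (S.mem_img (hle _)).mp hg
    have hc : m⁻¹ * S.f x * m * S.f (of 432) = S.f (of 432) * (m⁻¹ * S.f x * m) := by
      have hxc := (S.f_comm (S.mem_three hk x) (S.mem_three hk _)).mpr
        (Subgroup.mem_centralizer_singleton_iff.mp hx)
      calc m⁻¹ * S.f x * m * S.f (of 432) = m⁻¹ * (S.f x * (m * S.f (of 432) * m⁻¹)) * m := by group
        _ = m⁻¹ * ((m * S.f (of 432) * m⁻¹) * S.f x) * m := by rw [e, hxc]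
        _ = _ := by group
    obtain ⟨y, hy, hye⟩ := S.exists_f (hcw _ hc)
    refine (S.mem_img (hle _)).mpr ⟨y, Subgroup.mem_centralizer_singleton_iff.mpr
      ((S.f_comm hy (S.mem_three hk _)).mp (hye ▸ hc)), ?_⟩
    show m⁻¹ * S.f x * m⁻¹⁻¹ = S.f y
    rw [inv_inv, hye]
  have hd := Subgroup.card_dvd_of_le h
  rw [Subgroup.card_map_of_injective (MulAut.conj m⁻¹).injective, S.card_img (hle _), S.card_img (hle _),
    card_cent_129, card_cent_432] at hd
  norm_num at hd

theorem not_fused_three (hA : S.AllCN) (g : G) : g * S.z * g⁻¹ ≠ S.σ ∧ g * S.z * g⁻¹ ≠ S.σ⁻¹ := by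
  by_contra hcon
  have hg : g * S.z * g⁻¹ = S.σ ∨ g * S.z * g⁻¹ = S.σ⁻¹ := by
    by_contra hn
    exact hcon (not_or.mp hn)
  have h129 := S.mem_three hk (of 129)
  have hc : S.f (of 129) * S.σ = S.σ * S.f (of 129) :=
    (S.f_comm h129 (Kd_mono sg_mem)).mpr eight_facts.2.2.2.2.2.2.2.2.2.1
  have hcz : Commute (S.f (of 129)) (g * S.z * g⁻¹) := by
    rcases hg with e | e <;> rw [e]
    · exact hc
    · exact (show Commute _ _ from hc).inv_right
  obtain ⟨y, hy, hye⟩ := S.cent_z (g := g⁻¹ * S.f (of 129) * g) (by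
    calc g⁻¹ * S.f (of 129) * g * S.z = g⁻¹ * (S.f (of 129) * (g * S.z * g⁻¹)) * g := by group
      _ = g⁻¹ * ((g * S.z * g⁻¹) * S.f (of 129)) * g := by rw [hcz.eq]
      _ = _ := by group)
  have h2 : S.f (of 129) * S.f (of 129) = 1 := by
    rw [← S.f_mul h129 h129, eight_facts.2.2.2.2.2.2.2.2.2.2, S.f_one]
  have hy2 : y * y = 1 := S.f_eq_one (Kd_mono ((Kd 0).mul_mem hy hy)) (by
    rw [S.f_mul (Kd_mono hy) (Kd_mono hy), ← hye]
    calc g⁻¹ * S.f (of 129) * g * (g⁻¹ * S.f (of 129) * g) = g⁻¹ * (S.f (of 129) * S.f (of 129)) * g := by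
          group
      _ = 1 := by rw [h2]; group)
  have hy1 : Nat.beq (y.c : ℕ) 0 = false := by
    by_contra h
    rw [Bool.not_eq_false, Nat.beq_eq] at h
    rw [show y = 1 from code_eq.mpr (h.trans code_one.symm), S.f_one] at hye
    have e : S.f (of 129) = 1 := by
      calc S.f (of 129) = g * (g⁻¹ * S.f (of 129) * g) * g⁻¹ := by group
        _ = 1 := by rw [hye]; group
    exact absurd (S.f_eq_one h129 e) (by decide +kernel)
  have hchk : ((List.range 1296).all fun x => !inK 0 x || !Nat.beq (mulM x x) 0 || Nat.beq x 0 ||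
      conjTo 0 432 x) = true := by decide +kernel
  have h := all_mon hchk y
  rw [show inK 0 y.c = true from hy, ← code_mul, hy2, code_one, hy1] at h
  simp only [Bool.not_true, Nat.beq_refl, Bool.false_or] at h
  obtain ⟨c, hc', hce⟩ := conjTo_spec (k := (0 : Fin 4)) (show 432 < 1296 by norm_num) h
  refine S.flips_not_swap hk hA (g * (S.f c)⁻¹) ?_
  rw [← hce, S.f_conj (Kd_mono hc') (Kd_mono hy), ← hye]; group

/-- The last kind with small centralizers: normality. -/
theorem normal_eightB (hA : S.AllCN) : S.J.Normal := by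
  classical
  haveI : Fact (Nat.Prime 2) := ⟨Nat.prime_two⟩
  have hcu := S.flip_cent hk hA
  have hcw := S.cent_swap_three hk fun v hv h0 => hA v (mem_jL.mp hv).1 h0
  have hσz := S.not_fused_three hk hA
  have hm := fun x : Mon => S.mem_three hk x
  let θ : S.Φ.range →* Multiplicative (ZMod 2) :=
    S.homOn S.Φ.range le_rfl parH fun x y _ _ _ _ => parH_mul x y
  have hθ : ∀ (a : S.Φ.range) (x : Mon), (a : G) = S.f x → θ a = parH x := fun a x e =>
    S.homOn_apply S.Φ.range le_rfl parH (fun x y _ _ _ _ => parH_mul x y) (hm x) a e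
  let V : G →* Multiplicative (ZMod 2) := MonoidHom.transfer θ
  have hsq : ∀ n : ℕ, (of n : Mon) * of n = 1 → S.f (of n) ^ 2 = 1 := fun n h => by
    rw [pow_two, ← S.f_mul (hm _) (hm _), h, S.f_one]
  have hcls : ∀ (g a : G) (hg : g⁻¹ * a * g ∈ S.Φ.range), a ^ 2 = 1 → θ ⟨_, hg⟩ ≠ 1 →
      ∃ n ∈ S.Φ.range, ∃ v ∈ [108, 129, 540], g * n * S.f (of v) * (g * n)⁻¹ = a := by
    intro g a hg ha hne
    obtain ⟨y, hy, hye⟩ := S.exists_f hg
    rw [hθ _ y hye, ne_eq, parH_eq_one, Bool.not_eq_false] at hne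
    have hy2 : mulM y.c y.c = 0 := by
      have e : y * y = 1 := S.f_eq_one ((Kd S.k).mul_mem hy hy) (by
        rw [S.f_mul hy hy, ← hye]
        calc g⁻¹ * a * g * (g⁻¹ * a * g) = g⁻¹ * a ^ 2 * g := by rw [pow_two]; group
          _ = 1 := by rw [ha]; group)
      rw [← code_mul, e, code_one]
    have h' := all_mon eight_facts.1 y
    rw [hne, hy2, Nat.beq_refl] at h'
    simp only [Bool.not_true, Bool.false_or, Bool.or_eq_true] at h'
    obtain ⟨v, hv, hv'⟩ : ∃ v ∈ [108, 129, 540], conjTo 3 v y.c = true := by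
      rcases h' with (h' | h') | h'
      exacts [⟨_, by simp, h'⟩, ⟨_, by simp, h'⟩, ⟨_, by simp, h'⟩]
    obtain ⟨c, -, hce⟩ := conjTo_spec (k := (3 : Fin 4))
      (show v < 1296 by simp at hv; omega) hv'
    refine ⟨(S.f c)⁻¹, inv_mem (S.f_mem (hm c)), v, hv, ?_⟩
    rw [← hce, S.f_conj (hm c) hy, ← hye]; group
  have hc129 : S.f (of 129) * S.σ = S.σ * S.f (of 129) :=
    (S.f_comm (hm _) (Kd_mono sg_mem)).mpr eight_facts.2.2.2.2.2.2.2.2.2.1
  have hap := eight_facts.2.1
  simp only [List.all_eq_true, List.mem_range, Bool.and_eq_true] at hap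
  have hap1 : ((List.range 1296).all fun x => !Nat.beq (mulM (mulM x 108) (invM x)) 540) = true :=
    List.all_eq_true.mpr fun x hx => (hap x (List.mem_range.mp hx)).1.1
  have hap2 : ((List.range 1296).all fun x => !Nat.beq (mulM (mulM x 108) (invM x)) 432) = true :=
    List.all_eq_true.mpr fun x hx => (hap x (List.mem_range.mp hx)).1.2
  have hap3 : ((List.range 1296).all fun x => !Nat.beq (mulM (mulM x 432) (invM x)) 540) = true :=
    List.all_eq_true.mpr fun x hx => (hap x (List.mem_range.mp hx)).2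
  have hswap : ∀ {g a b : G}, g * a * g⁻¹ = b → g⁻¹ * b * g⁻¹⁻¹ = a := fun {g a b} e => by
    rw [← e]; group
  have hVu : V (S.f (of 108)) ≠ 1 := by
    refine transfer_ne_one_of_le S.Φ.range θ (hsq 108 (by decide +kernel)) (S.f_mem (hm _)) ?_ ?_
      (fun c hc => hcu c hc)
    · rw [hθ _ _ rfl, ne_eq, parH_eq_one]
      decide +kernel
    · intro g hg hne
      obtain ⟨n, hn, v, hv, e⟩ := hcls g _ hg (hsq 108 (by decide +kernel)) hne
      simp only [List.mem_cons, List.not_mem_nil, or_false] at hv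
      rcases hv with rfl | rfl | rfl
      · have := S.Φ.range.mul_mem (hcu (g * n) (mul_inv_eq_iff_eq_mul.mp e)) (inv_mem hn)
        simpa using this
      · exact (S.σ_not_cent (u := 108) (v := 1) (by norm_num) (hm _) (S.three108 hk)
          eight_facts.2.2.2.2.2.2.2.1 (hA 1 (by norm_num) (by norm_num)) hσz hc129 (hswap e)).elim
      · exfalso
        have hm' := S.inv_conj_range (by norm_num) (hm _) (S.three108 hk) hcu (show 540 < 1296 by norm_num)
          (hm _) eight_facts.2.2.2.2.2.2.1 (hA 4 (by norm_num) (by norm_num)) (hswap e)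
        exact S.class_apart hk (by norm_num) (by norm_num) hap1 hm' (hswap e)
  have hVw : V (S.f (of 432)) = 1 := by
    refine transfer_eq_one S.Φ.range θ (hsq 432 (by decide +kernel)) fun g hg => ?_
    by_contra hne
    obtain ⟨n, hn, v, hv, e⟩ := hcls g _ hg (hsq 432 (by decide +kernel)) hne
    simp only [List.mem_cons, List.not_mem_nil, or_false] at hv
    rcases hv with rfl | rfl | rfl
    · have hm' := S.inv_conj_range (by norm_num) (hm _) (S.three108 hk) hcu (show 432 < 1296 by norm_num)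
        (hm _) eight_facts.2.2.2.2.2.1 (hA 9 (by norm_num) (by norm_num)) e
      exact S.class_apart hk (by norm_num) (by norm_num) hap2 hm' e
    · exact S.flips_not_swap hk hA _ (hswap e)
    · have hm' := S.inv_conj_range (by norm_num) (hm _) (S.three432' hk) hcw (show 540 < 1296 by norm_num)
        (hm _) eight_facts.2.2.2.2.2.2.1 (hA 4 (by norm_num) (by norm_num)) (hswap e)
      exact S.class_apart hk (by norm_num) (by norm_num) hap3 hm' (hswap e)
  -- the restriction of the transfer is the parity up to the value at a flip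
  have h3kill : ∀ a : G, a ^ 3 = 1 → V a = 1 := fun a ha =>
    eq_one_of_coprime (show Nat.Coprime 3 2 by norm_num) (by rw [← map_pow, ha, map_one]) (zmod_two_sq _)
  set a := V (S.f (of 108)) with hadef
  have hVconj : ∀ c b : Mon, V (S.f (c * b * c⁻¹)) = V (S.f b) := fun c b => by
    rw [S.f_conj (hm c) (hm b), map_mul, map_mul, map_inv, mul_right_comm, mul_inv_cancel, one_mul]
  have hVflip : ∀ b ∈ flL, V (S.f (of b)) = cond (parF b) a 1 := by
    have h18 : (sg * of 108 * sg⁻¹ = of 18 ∧ sg⁻¹ * of 108 * sg⁻¹⁻¹ = of 3) ∨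
        (sg * of 108 * sg⁻¹ = of 3 ∧ sg⁻¹ * of 108 * sg⁻¹⁻¹ = of 18) := by decide +kernel
    obtain ⟨e18, e3⟩ : V (S.f (of 18)) = a ∧ V (S.f (of 3)) = a := by
      rcases h18 with ⟨e1, e2⟩ | ⟨e1, e2⟩ <;> constructor <;> first
        | (rw [← e1, hVconj]) | (rw [← e2, hVconj])
    have haa : a * a = 1 := by rw [← pow_two]; exact zmod_two_sq a
    have hmul : ∀ p q r : ℕ, (of p : Mon) * of q = of r → V (S.f (of r)) = V (S.f (of p)) * V (S.f (of q)) :=
      fun p q r e => by rw [← e, S.f_mul (hm _) (hm _), map_mul]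
    have e21 : V (S.f (of 21)) = 1 := by rw [hmul 3 18 21 (by decide +kernel), e3, e18, haa]
    intro b hb
    simp only [flL, List.mem_cons, List.not_mem_nil, or_false] at hb
    rcases hb with rfl | rfl | rfl | rfl | rfl | rfl | rfl | rfl
    · rw [show of 0 = (1 : Mon) from rfl, S.f_one, map_one]; rfl
    · exact e3
    · exact e18
    · exact e21
    · rfl
    · rw [hmul 3 108 111 (by decide +kernel), e3]; exact haa
    · rw [hmul 18 108 126 (by decide +kernel), e18]; exact haa
    · rw [hmul 21 108 129 (by decide +kernel), e21, one_mul]; rfl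
  have hVblk : ∀ p < 6, V (S.f (of (Nat.mul 216 p))) = 1 := by
    intro p hp
    have hw2 : ∀ p : Fin 6, (of (Nat.mul 216 (p : ℕ)) : Mon) = 1 ∨ of (Nat.mul 216 (p : ℕ)) = sg ∨
        of (Nat.mul 216 (p : ℕ)) = sg⁻¹ ∨ of (Nat.mul 216 (p : ℕ)) = of 432 ∨
        of (Nat.mul 216 (p : ℕ)) = sg * of 432 * sg⁻¹ ∨ of (Nat.mul 216 (p : ℕ)) = sg⁻¹ * of 432 * sg⁻¹⁻¹ := by
      decide +kernel
    have hσ : V (S.f sg) = 1 := h3kill _ S.σ_cube
    rcases hw2 ⟨p, hp⟩ with e | e | e | e | e | e <;> rw [show (of (Nat.mul 216 p) : Mon) = _ from e]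
    · rw [S.f_one, map_one]
    · exact hσ
    · rw [S.f_inv (hm _), map_inv, hσ, inv_one]
    · exact hVw
    · rw [hVconj]; exact hVw
    · rw [hVconj]; exact hVw
  have hVf : ∀ x : Mon, V (S.f x) = cond (parF x.c) a 1 := by
    intro x
    have h := all_mon eight_facts.2.2.2.2.1 x
    simp only [List.any_eq_true, Bool.or_eq_true] at h
    obtain ⟨b, hb, h⟩ := h
    have hf := List.all_eq_true.mp flL_facts.1 b hb
    simp only [Bool.and_eq_true, Nat.beq_eq] at hf
    have hb1 : b < 1296 := lt_of_blt hf.1.1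
    have hp : Nat.mul 216 (blk x.c) < 1296 := by have := blk_lt x.c; show 216 * _ < 1296; omega
    set P : Mon := of (Nat.mul 216 (blk x.c))
    have hPpar : parF (P.c : ℕ) = false := by
      rw [code_of hp]
      have : ∀ p : Fin 6, parF (Nat.mul 216 (p : ℕ)) = false := by decide +kernel
      exact this ⟨_, blk_lt x.c⟩
    have hTpar : ∀ y : Mon, y ∈ Tr → parF (y.c : ℕ) = false := fun y hy => by
      obtain ⟨v, hv, rfl⟩ := mem_Tr.mp hy
      have : ∀ w : Fin 27, parF ((tr (w : ℕ)).c : ℕ) = false := by decide +kernel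
      exact this ⟨v, hv⟩
    have hVT : ∀ y : Mon, y ∈ Tr → V (S.f y) = 1 := fun y hy => h3kill _ (S.J_cube ((S.f_mem_J (hm y)).mpr hy))
    obtain ⟨T, hT, hx⟩ : ∃ T, T ∈ Tr ∧ (x * of b * P⁻¹ = T ∨ x * P⁻¹ * of b = T) := by
      rcases h with h | h
      · exact ⟨_, show inT (x * of b * P⁻¹).c = true by
          rw [code_mul, code_mul, code_inv, code_of hb1, code_of hp]; exact h, Or.inl rfl⟩
      · exact ⟨_, show inT (x * P⁻¹ * of b).c = true by
          rw [code_mul, code_mul, code_inv, code_of hb1, code_of hp]; exact h, Or.inr rfl⟩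
    have hPi : parF ((P⁻¹ : Mon).c : ℕ) = false := by
      have h := parF_mul P P⁻¹
      rw [mul_inv_cancel, hPpar, Bool.false_xor] at h
      exact h.symm
    have hVP : V (S.f P) = 1 := hVblk _ (blk_lt x.c)
    have hsame : parF x.c = parF b ∧ V (S.f x) * V (S.f (of b)) = 1 := by
      have hpT := hTpar T hT
      have hvT := hVT T hT
      rcases hx with e | e <;> rw [← e] at hpT hvT <;>
        rw [S.f_mul (hm _) (hm _), S.f_mul (hm _) (hm _), map_mul, map_mul, S.f_inv (hm P), map_inv, hVP,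
          inv_one, mul_one] at hvT <;>
        rw [parF_mul, parF_mul, hPi, code_of hb1] at hpT
      all_goals refine ⟨?_, hvT⟩
      all_goals (revert hpT; cases parF x.c <;> cases parF b <;> simp)
    rw [hsame.1, ← hVflip b hb]
    have hb2 : V (S.f (of b)) * V (S.f (of b)) = 1 := by rw [← pow_two]; exact zmod_two_sq _
    exact (eq_inv_of_mul_eq_one_left hsame.2).trans (inv_eq_of_mul_eq_one_right hb2)
  set G2 := V.ker
  have hG2 : ∀ x : Mon, (S.f x ∈ G2 ↔ x ∈ Kd 2) := by
    intro x
    rw [MonoidHom.mem_ker, hVf, mem_Kd]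
    have h1 := all_mon eight_facts.2.2.1 x
    have h2 := all_mon eight_facts.2.2.2.1 x
    simp only [Bool.or_eq_true, Bool.not_eq_true'] at h1 h2
    cases hp : parF x.c
    · rw [hp] at h2
      exact iff_of_true rfl (h2.resolve_right (by simp))
    · rw [hp] at h1
      refine iff_of_false hVu fun e => ?_
      rcases h1 with h1 | h1
      · exact Bool.false_ne_true (h1.symm.trans e)
      · simp at h1
  -- the setup of kind two on the kernel
  let Φ' : Kd 2 →* G2 := MonoidHom.mk' (fun x => ⟨S.f x, (hG2 x).mpr x.2⟩)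
    (fun x y => Subtype.ext (S.f_mul (hm x.1) (hm y.1)))
  have hJ2 : S.J ≤ G2 := fun j hj => MonoidHom.mem_ker.mpr (h3kill _ (S.J_cube hj))
  have hzK : (zE : Mon) ∈ Kd 2 := tr_mem (by norm_num)
  let S' : Setup G2 :=
    { k := 2
      Φ := Φ'
      inj := fun x y e => Subtype.ext (S.f_inj (hm _) (hm _) (congrArg Subtype.val e))
      norm := fun g hg => by
        have hr : (g : G) ∈ S.Φ.range := S.mem_range_of_normalizes fun j hj => by
          obtain ⟨v, hv, rfl⟩ := S.mem_J.mp hj
          obtain ⟨w', hw', e⟩ := hg v hv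
          have e' := congrArg Subtype.val e
          change (g : G) * S.f (tr v) * (g : G)⁻¹ = S.f (tr w') at e'
          rw [e']; exact S.tr_mem_J hw'
        obtain ⟨x, -, hx⟩ := S.exists_f hr
        exact ⟨⟨x, (hG2 x).mp (hx ▸ g.2)⟩, Subtype.ext hx.symm⟩
      cent := fun g hg => by
        obtain ⟨x, -, hx⟩ := S.cent_z (g := (g : G))
          (congrArg Subtype.val (Subgroup.mem_centralizer_singleton_iff.mp hg))
        exact ⟨⟨x, (hG2 x).mp (hx ▸ g.2)⟩, Subtype.ext hx.symm⟩
      sig := fun K hK hKJ => by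
        refine (Subgroup.map_eq_bot_iff_of_injective K G2.subtype_injective).mp (S.sig' _
          (by rwa [Subgroup.card_map_of_injective G2.subtype_injective]) fun j hj => ?_)
        obtain ⟨v, hv, rfl⟩ := S.mem_J.mp hj
        refine mem_normalizer_of_le _ ?_
        rintro _ ⟨k, hk', rfl⟩
        refine ⟨_, (hKJ v hv).le ⟨k, hk', rfl⟩, ?_⟩
        rfl }
  have hn := S'.normal_even (Or.inr rfl)
  have hlast : ∀ g ∈ G2, ∀ j ∈ S.J, g * j * g⁻¹ ∈ S.J := by
    intro g hg j hj
    obtain ⟨v, hv, rfl⟩ := S.mem_J.mp hj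
    have hvK : tr v ∈ Kd 2 := tr_mem hv
    obtain ⟨v', hv', e⟩ := S'.mem_J.mp (hn.conj_mem _ (S'.tr_mem_J hv) ⟨g, hg⟩)
    rw [S'.f_eq hvK, S'.f_eq (tr_mem hv' : tr v' ∈ Kd 2)] at e
    have e' := congrArg Subtype.val e
    change g * S.f (tr v) * g⁻¹ = S.f (tr v') at e'
    rw [e']; exact S.tr_mem_J hv'
  exact ⟨fun n hn' g => S.normal_step hJ2 (L := ⊤)
    (fun g _ x hx => (inferInstance : V.ker.Normal).conj_mem x hx g) hlast g (Subgroup.mem_top g) n hn'⟩

end Three

end Setup

end CfsgLib.SymNineThree
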