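import Cfsg.Agent.Lib.SymNineThree.KleinA
import Cfsg.Agent.Lib.SymNineThree.EightB

/-!
The four commuting transpositions, the sign, and the fusion of the rotation into `J`.
-/

set_option autoImplicit false
set_option maxRecDepth 20000
set_option linter.style.haveILetI false

namespace CfsgLib.SymNineThree

open Mon Six

attribute [local instance 2000] List.decidableBAll List.decidableBEx

/-- An injection of a finite family into itself gives the stabilizer of its range. -/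
theorem mem_normalizer_range {G : Type*} [Group G] {n : ℕ} {t : Fin n → G} (ht : Function.Injective t) {g : G}
    (h : ∀ i, ∃ j, g * t i * g⁻¹ = t j) : g ∈ Subgroup.normalizer (Set.range t) := by
  choose π hπ using h
  have hinj : Function.Injective π := fun a b e => by
    refine ht (mul_left_cancel (a := g) (mul_right_cancel (b := g⁻¹) ?_))
    rw [hπ, hπ, e]
  rw [Subgroup.mem_set_normalizer_iff]
  intro y
  constructor
  · rintro ⟨i, rfl⟩; exact ⟨π i, (hπ i).symm⟩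
  · rintro ⟨j, hj⟩
    obtain ⟨i, rfl⟩ := Finite.surjective_of_injective hinj j
    exact ⟨i, mul_left_cancel (a := g) (mul_right_cancel (b := g⁻¹) ((hπ i).trans hj))⟩

theorem two_values : (∀ t : Multiplicative (ZMod 2), t ≠ 1 → t = Multiplicative.ofAdd 1) ∧
    Multiplicative.ofAdd (1 : ZMod 2) ≠ 1 := by decide +kernel

namespace Six

/-- The permutations of the three transpositions. -/
def N6 : Subgroup P6 := Subgroup.normalizer (Set.range kl)

/-- A Sylow subgroup of the permutations of the three transpositions. -/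
def T6 : Subgroup P6 := Subgroup.centralizer {kl 0, kl 1 * kl 2}

theorem mem_T6 {x : P6} : x ∈ T6 ↔ kl 0 * x = x * kl 0 ∧ kl 1 * kl 2 * x = x * (kl 1 * kl 2) := by
  simp [T6, Subgroup.mem_centralizer_iff]

theorem kl_inj : Function.Injective kl := by decide +kernel

theorem kl_mem_E6 (i : Fin 3) : kl i ∈ E6 := by
  fin_cases i <;> first
    | exact mem_E6.mpr ⟨true, false, false, by decide +kernel⟩
    | exact mem_E6.mpr ⟨false, true, false, by decide +kernel⟩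
    | exact mem_E6.mpr ⟨false, false, true, by decide +kernel⟩

theorem mem_N6 {y : P6} : y ∈ N6 ↔ ∀ i, ∃ j, y * kl i * y⁻¹ = kl j := by
  refine ⟨fun h i => ?_, fun h => mem_normalizer_range kl_inj h⟩
  obtain ⟨j, hj⟩ := (Subgroup.mem_set_normalizer_iff.mp h (kl i)).mp ⟨i, rfl⟩
  exact ⟨j, hj.symm⟩

theorem kl_perms : ∀ π : Fin 3 → Fin 3, (∀ a b, π a = π b → a = b) →
    ∃ y ∈ [(1 : P6), sA * sB, sA * sA * (sB * sB), sU * sV, sA * sB * (sU * sV), sA * sA * (sB * sB) * (sU * sV)],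
      ∀ i, y * kl i * y⁻¹ = kl (π i) := by decide +kernel

theorem six_facts :
    (∀ x : P6, (kl 0 * x = x * kl 0 ∧ kl 1 * kl 2 * x = x * (kl 1 * kl 2)) → ∀ i, ∃ j, x * kl i * x⁻¹ = kl j) ∧
    (∀ y : P6, (∀ i, ∃ j, y * kl i * y⁻¹ = kl j) →
      (kl 0 * (y * (sU * sV) * y⁻¹) = y * (sU * sV) * y⁻¹ * kl 0 ∧
        kl 1 * kl 2 * (y * (sU * sV) * y⁻¹) = y * (sU * sV) * y⁻¹ * (kl 1 * kl 2)) →
      (∀ i, kl 0 * (y * kl i * y⁻¹) = y * kl i * y⁻¹ * kl 0) →
      kl 0 * y = y * kl 0 ∧ kl 1 * kl 2 * y = y * (kl 1 * kl 2)) ∧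
    (∀ x : P6, (∀ i, ∃ j, x * kl i * x⁻¹ = kl j) → x * x = 1 →
      (Finset.univ.filter fun i => x i ≠ i).card = 2 → ∃ i, x = kl i) ∧
    (∀ i : Fin 3, kl 0 * kl i = kl i * kl 0 ∧ kl 1 * kl 2 * kl i = kl i * (kl 1 * kl 2)) ∧
    (kl 0 * (sU * sV) = sU * sV * kl 0 ∧ kl 1 * kl 2 * (sU * sV) = sU * sV * (kl 1 * kl 2)) ∧
    (∀ x : P6, kl 0 * x = x * kl 0 → kl 1 * kl 2 * x = x * (kl 1 * kl 2) → x * x * (x * x) = 1) ∧
    (∃ y : P6, y * (kl 0 * kl 1) * y⁻¹ = sU * sV) ∧ (∀ i : Fin 3, ∃ y : P6, y * sT * y⁻¹ = kl i) ∧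
    (∀ i : Fin 3, ∃ y : P6, y * kl i * y⁻¹ = sU) := by
  refine ⟨?_, ?_, ?_, ?_, ?_, ?_, ?_, ?_, ?_⟩ <;> decide +kernel

theorem T6_le_N6 : T6 ≤ N6 := fun x hx => mem_N6.mpr (six_facts.1 x (mem_T6.mp hx))

theorem E6_le_N6 : E6 ≤ N6 := fun x hx => mem_N6.mpr fun i => ⟨i, by
  rw [show x * kl i = kl i * x from (Subgroup.mem_centralizer_iff.mp hx (kl i) ⟨i, rfl⟩).symm,
    mul_inv_cancel_right]⟩

theorem card_support_of_conj {x : P6} (h : IsConj x sU) : (Finset.univ.filter fun i => x i ≠ i).card = 2 := by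
  have hs : sU.support.card = 2 := Equiv.Perm.card_support_swap (by decide)
  rw [← Equiv.Perm.sum_cycleType, ← Equiv.Perm.isConj_iff_cycleType_eq.mp h, Equiv.Perm.sum_cycleType] at hs
  exact hs

end Six

/-- The sign of the permutation on nine points, on codes. -/
def sgA (x : Mon) : Multiplicative (ZMod 2) := parH x * sgn x

theorem sgA_mul (x y : Mon) : sgA (x * y) = sgA x * sgA y := by
  rw [sgA, sgA, sgA, parH_mul, sgn_mul, mul_mul_mul_comm]

theorem flipA_facts :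
    sgA (of 108) = Multiplicative.ofAdd 1 ∧ sgA (of 432) = Multiplicative.ofAdd 1 ∧ sgA sg = 1 ∧
    (∀ v : Fin 27, sgA (tr (v : ℕ)) = 1) ∧
    (∀ p : Fin 6, (of (Nat.mul 216 (p : ℕ)) : Mon) = 1 ∨ of (Nat.mul 216 (p : ℕ)) = sg ∨
        of (Nat.mul 216 (p : ℕ)) = sg⁻¹ ∨ of (Nat.mul 216 (p : ℕ)) = of 432 ∨
        of (Nat.mul 216 (p : ℕ)) = sg * of 432 * sg⁻¹ ∨ of (Nat.mul 216 (p : ℕ)) = sg⁻¹ * of 432 * sg⁻¹⁻¹) ∧
    ((sg * of 108 * sg⁻¹ = of 18 ∧ sg⁻¹ * of 108 * sg⁻¹⁻¹ = of 3) ∨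
      (sg * of 108 * sg⁻¹ = of 3 ∧ sg⁻¹ * of 108 * sg⁻¹⁻¹ = of 18)) ∧
    (of 3 : Mon) * of 18 = of 21 ∧ (of 3 : Mon) * of 108 = of 111 ∧ (of 18 : Mon) * of 108 = of 126 ∧
    (of 21 : Mon) * of 108 = of 129 ∧ (of 108 : Mon) * of 21 = of 129 ∧
    (of 108 : Mon) * of 432 = of 540 ∧ (of 108 : Mon) * of 3 = of 111 ∧ (of 540 : Mon) ≠ 1 := by
  refine ⟨?_, ?_, ?_, ?_, ?_, ?_, ?_, ?_, ?_, ?_, ?_, ?_, ?_, ?_⟩ <;> decide +kernel

/-- Four kinds of elements generate. -/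
theorem mon_gen (L : Subgroup Mon) (hu' : (of 108 : Mon) ∈ L) (hw' : (of 432 : Mon) ∈ L) (hs' : (sg : Mon) ∈ L)
    (ht : ∀ v < 27, tr v ∈ L) (x : Mon) : x ∈ L := by
  obtain ⟨-, -, -, -, f5, f6, f7, f8, f9, f10, -⟩ := flipA_facts
  have ht' : ∀ y ∈ Tr, y ∈ L := fun y hy => by
    obtain ⟨v, hv, rfl⟩ := mem_Tr.mp hy
    exact ht v hv
  have hp' : ∀ p < 6, (of (Nat.mul 216 p) : Mon) ∈ L := by
    intro p hp
    rcases f5 ⟨p, hp⟩ with e | e | e | e | e | e <;> rw [show (of (Nat.mul 216 p) : Mon) = _ from e]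
    · exact one_mem L
    · exact hs'
    · exact inv_mem hs'
    · exact hw'
    · exact mul_mem (mul_mem hs' hw') (inv_mem hs')
    · exact mul_mem (mul_mem (inv_mem hs') hw') (inv_mem (inv_mem hs'))
  have h3' : (of 3 : Mon) ∈ L ∧ (of 18 : Mon) ∈ L := by
    have m1 := mul_mem (mul_mem hs' hu') (inv_mem hs')
    have m2 := mul_mem (mul_mem (inv_mem hs') hu') (inv_mem (inv_mem hs'))
    rcases f6 with ⟨e1, e2⟩ | ⟨e1, e2⟩ <;> rw [e1] at m1 <;> rw [e2] at m2
    exacts [⟨m2, m1⟩, ⟨m1, m2⟩]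
  have hfl : ∀ b ∈ flL, (of b : Mon) ∈ L := by
    intro b hb
    simp only [flL, List.mem_cons, List.not_mem_nil, or_false] at hb
    rcases hb with rfl | rfl | rfl | rfl | rfl | rfl | rfl | rfl
    · exact one_mem L
    · exact h3'.1
    · exact h3'.2
    · rw [← f7]; exact mul_mem h3'.1 h3'.2
    · exact hu'
    · rw [← f8]; exact mul_mem h3'.1 hu'
    · rw [← f9]; exact mul_mem h3'.2 hu'
    · rw [← f10, ← f7]; exact mul_mem (mul_mem h3'.1 h3'.2) hu'
  have h := all_mon eight_facts.2.2.2.2.1 x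
  simp only [List.any_eq_true, Bool.or_eq_true] at h
  obtain ⟨b, hb, h⟩ := h
  have hf := List.all_eq_true.mp flL_facts.1 b hb
  simp only [Bool.and_eq_true, Nat.beq_eq] at hf
  have hb1 : b < 1296 := lt_of_blt hf.1.1
  have hp : Nat.mul 216 (blk x.c) < 1296 := by have := blk_lt x.c; show 216 * _ < 1296; omega
  set Q : Mon := of (Nat.mul 216 (blk x.c))
  have hQ : Q ∈ L := hp' _ (blk_lt x.c)
  rcases h with h | h
  · have hT : x * of b * Q⁻¹ ∈ L := ht' _ (show inT (x * of b * Q⁻¹).c = true by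
      rw [code_mul, code_mul, code_inv, code_of hb1, code_of hp]; exact h)
    have := mul_mem (mul_mem hT hQ) (inv_mem (hfl b hb))
    simpa [mul_assoc] using this
  · have hT : x * Q⁻¹ * of b ∈ L := ht' _ (show inT (x * Q⁻¹ * of b).c = true by
      rw [code_mul, code_mul, code_inv, code_of hb1, code_of hp]; exact h)
    have := mul_mem (mul_mem hT (inv_mem (hfl b hb))) hQ
    simpa [mul_assoc] using this

namespace Setup

universe w

variable {G : Type w} [Group G] [Finite G] {S : Setup G}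

namespace Comp

variable (P : S.Comp) (hk : S.k = 3)
include P hk

theorem u_sq : S.f (of 108) * S.f (of 108) = 1 := by
  rw [← S.f_mul (S.mem_three hk _) (S.mem_three hk _),
    comp_facts.2.2.2.2.2.2.2.2.2.2.2.2.2.2.2.2.2.2.2.2.2.2.2, S.f_one]

theorem flip_ne (x : P6) : S.f (of 108) ≠ P.ι x := by
  intro e
  have hm := fun x : Mon => S.mem_three hk x
  have h := P.comm x
  rw [← e] at h
  exact absurd ((S.f_comm (hm _) (hm _)).mp h) (by decide +kernel)

theorem flip_mul_ne (a b : P6) : P.ι a ≠ S.f (of 108) * P.ι b := fun e =>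
  P.flip_ne hk (a * b⁻¹) (by rw [map_mul, map_inv, e, mul_inv_cancel_right])

/-- A subgroup of the component extended by the flip. -/
noncomputable def withFlip (A : Subgroup P6) : Subgroup G where
  carrier := {g | ∃ x ∈ A, g = P.ι x ∨ g = S.f (of 108) * P.ι x}
  one_mem' := ⟨1, one_mem A, Or.inl (map_one _).symm⟩
  mul_mem' := by
    rintro g h ⟨x, hx, ex⟩ ⟨y, hy, ey⟩
    refine ⟨x * y, mul_mem hx hy, ?_⟩
    have hc := P.comm_u hk x
    rcases ex with rfl | rfl <;> rcases ey with rfl | rfl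
    · exact Or.inl (map_mul _ _ _).symm
    · exact Or.inr (by rw [← mul_assoc, hc, mul_assoc, map_mul])
    · exact Or.inr (by rw [mul_assoc, map_mul])
    · exact Or.inl (by rw [mul_assoc, ← mul_assoc (P.ι x), hc, mul_assoc, ← mul_assoc, P.u_sq hk, one_mul, map_mul])
  inv_mem' := by
    rintro g ⟨x, hx, ex⟩
    refine ⟨x⁻¹, inv_mem hx, ?_⟩
    rcases ex with rfl | rfl
    · exact Or.inl (map_inv _ _).symm
    · exact Or.inr (by
        rw [mul_inv_rev, inv_eq_of_mul_eq_one_right (P.u_sq hk), ← map_inv]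
        exact P.comm_u hk x⁻¹)

theorem withFlip_cent {A : Subgroup P6} {g : G} (h : g ∈ P.withFlip hk A) :
    g * S.f (of 108) = S.f (of 108) * g := by
  obtain ⟨x, -, rfl | rfl⟩ := h
  · exact P.comm_u hk x
  · rw [mul_assoc, P.comm_u hk x]

/-- The four commuting conjugates of the flip. -/
noncomputable def t4 : Fin 4 → G := Fin.cons (S.f (of 108)) fun i => P.ι (kl i)

omit hk in
theorem t4_zero : P.t4 0 = S.f (of 108) := rfl

omit hk in
theorem t4_succ (i : Fin 3) : P.t4 i.succ = P.ι (kl i) := rfl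

theorem t4_inj : Function.Injective P.t4 := by
  intro a b e
  cases a using Fin.cases with
  | zero => cases b using Fin.cases with
    | zero => rfl
    | succ j => exact absurd e (P.flip_ne hk _)
  | succ i => cases b using Fin.cases with
    | zero => exact absurd e.symm (P.flip_ne hk _)
    | succ j => exact congrArg Fin.succ (kl_inj (P.inj e))

theorem t4_mem (i : Fin 4) : P.t4 i ∈ P.withFlip hk E6 := by
  cases i using Fin.cases with
  | zero => exact ⟨1, one_mem _, Or.inr (by rw [map_one, mul_one]; rfl)⟩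
  | succ j => exact ⟨kl j, kl_mem_E6 j, Or.inl rfl⟩

theorem t4_conj (i : Fin 4) : ∃ m : G, m * S.f (of 108) * m⁻¹ = P.t4 i := by
  cases i using Fin.cases with
  | zero => exact ⟨1, by rw [one_mul, inv_one, mul_one]; rfl⟩
  | succ j =>
    obtain ⟨m, hm⟩ := P.exists_swap_conj hk
    obtain ⟨y, hy⟩ := six_facts.2.2.2.2.2.2.2.1 j
    refine ⟨P.ι y * m, ?_⟩
    rw [P.t4_succ, ← hy, map_mul, map_mul, map_inv, ← hm]
    group

/-- Stabilizing the four inside the centralizer of the flip. -/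
theorem cent_stab {g : G} (hgu : g * S.f (of 108) = S.f (of 108) * g)
    (h : ∀ i, ∃ j, g * P.t4 i * g⁻¹ = P.t4 j) : g ∈ P.withFlip hk N6 := by
  have hfix : g * P.t4 0 * g⁻¹ = P.t4 0 := by rw [P.t4_zero, hgu, mul_inv_cancel_right]
  have h3 : ∀ i : Fin 3, ∃ j : Fin 3, g * P.t4 i.succ * g⁻¹ = P.t4 j.succ := by
    intro i
    obtain ⟨j, hj⟩ := h i.succ
    cases j using Fin.cases with
    | zero =>
      rw [← hfix] at hj
      exact absurd (P.t4_inj hk (mul_left_cancel (mul_right_cancel hj))) (Fin.succ_ne_zero i)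
    | succ j => exact ⟨j, hj⟩
  choose π hπ using h3
  obtain ⟨y, -, hy⟩ := kl_perms π fun a b e => Fin.succ_injective _ (P.t4_inj hk
    (mul_left_cancel (a := g) (mul_right_cancel (b := g⁻¹) (by rw [hπ, hπ, e]))))
  have hk' : ∀ i, g * P.ι (kl i) * g⁻¹ = P.ι y * P.ι (kl i) * (P.ι y)⁻¹ := fun i => by
    rw [← map_inv, ← map_mul, ← map_mul, hy i]; exact hπ i
  have hc : ∀ i, ((P.ι y)⁻¹ * g) * P.ι (kl i) = P.ι (kl i) * ((P.ι y)⁻¹ * g) := fun i => by
    calc (P.ι y)⁻¹ * g * P.ι (kl i) = (P.ι y)⁻¹ * (g * P.ι (kl i) * g⁻¹) * g := by group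
      _ = (P.ι y)⁻¹ * (P.ι y * P.ι (kl i) * (P.ι y)⁻¹) * g := by rw [hk']
      _ = _ := by group
  have hce : ∀ x ∈ E6, (P.ι y)⁻¹ * g * P.ι x = P.ι x * ((P.ι y)⁻¹ * g) := by
    intro x hx
    obtain ⟨a, b, c, rfl⟩ := mem_E6.mp hx
    have hh : ∀ (s : Bool) i, Commute ((P.ι y)⁻¹ * g) (P.ι (cond s (kl i) 1)) := fun s i => by
      cases s
      · rw [cond_false, map_one]; exact Commute.one_right _
      · exact hc i
    rw [klE, map_mul, map_mul]
    exact (((hh a 0).mul_right (hh b 1)).mul_right (hh c 2)).eq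
  have hcu : (P.ι y)⁻¹ * g * S.f (of 108) = S.f (of 108) * ((P.ι y)⁻¹ * g) := by
    rw [mul_assoc, hgu, ← mul_assoc, ← map_inv, P.comm_u hk, mul_assoc]
  obtain ⟨e, he, hcases⟩ := P.cent_four hk hce hcu
  have hyN : y ∈ N6 := mem_N6.mpr fun i => ⟨π i, hy i⟩
  refine ⟨y * e, mul_mem hyN (E6_le_N6 he), ?_⟩
  rcases hcases with e' | e'
  · left; rw [map_mul, ← e', mul_inv_cancel_left]
  · right
    rw [map_mul, ← mul_assoc, ← P.comm_u hk y, mul_assoc, ← e', mul_inv_cancel_left]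

/-- Conjugates of the flip stabilizing the four. -/
theorem class_stab {g : G} (h : g * S.f (of 108) * g⁻¹ ∈ P.withFlip hk N6) :
    ∃ i, g * S.f (of 108) * g⁻¹ = P.t4 i := by
  obtain ⟨x, hx, e⟩ := h
  have hsq : g * S.f (of 108) * g⁻¹ * (g * S.f (of 108) * g⁻¹) = 1 := by
    rw [show g * S.f (of 108) * g⁻¹ * (g * S.f (of 108) * g⁻¹) = g * (S.f (of 108) * S.f (of 108)) * g⁻¹ by group,
      P.u_sq hk]; group
  have hx2 : x * x = 1 := by
    refine P.inj ?_
    rw [map_mul, map_one, ← hsq]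
    rcases e with e | e <;> rw [e]
    rw [mul_assoc, ← mul_assoc (P.ι x), P.comm_u hk x, mul_assoc, ← mul_assoc, P.u_sq hk, one_mul]
  obtain ⟨h1, h2⟩ := P.u_class hk hx2 (m := g)
  rcases e with e | e
  · obtain ⟨i, rfl⟩ := six_facts.2.2.1 x (mem_N6.mp hx) hx2 (card_support_of_conj (h1 e))
    exact ⟨i.succ, e⟩
  · refine ⟨0, ?_⟩
    rw [e, h2 e, map_one, mul_one]
    rfl

theorem withFlip_mono {A B : Subgroup P6} (h : A ≤ B) : P.withFlip hk A ≤ P.withFlip hk B :=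
  fun _ ⟨x, hx, e⟩ => ⟨x, h hx, e⟩

theorem four_pgroup : IsPGroup 2 (P.withFlip hk E6) ∧ IsPGroup 2 (P.withFlip hk T6) := by
  have key : ∀ x : P6, (P.ι x * P.ι x = P.ι (x * x)) ∧
      S.f (of 108) * P.ι x * (S.f (of 108) * P.ι x) = P.ι (x * x) := fun x => ⟨(map_mul _ _ _).symm, by
    rw [mul_assoc, ← mul_assoc (P.ι x), P.comm_u hk x, mul_assoc, ← mul_assoc, P.u_sq hk, one_mul, map_mul]⟩
  have hkey : ∀ {g : G} {x : P6}, (g = P.ι x ∨ g = S.f (of 108) * P.ι x) → g * g = P.ι (x * x) := by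
    rintro g x (rfl | rfl)
    · exact (key x).1
    · exact (key x).2
  constructor
  · rintro ⟨g, x, hx, e⟩
    refine ⟨1, Subtype.ext ?_⟩
    show g ^ 2 ^ 1 = 1
    rw [pow_one, pow_two, hkey e, sq_E6 hx, map_one]
  · rintro ⟨g, x, hx, e⟩
    refine ⟨2, Subtype.ext ?_⟩
    show g ^ 2 ^ 2 = 1
    rw [show g ^ 2 ^ 2 = g * g * (g * g) by simp [pow_succ, mul_assoc], hkey e, ← map_mul,
      six_facts.2.2.2.2.2.1 x (mem_T6.mp hx).1 (mem_T6.mp hx).2, map_one]

/-- The Sylow subgroup of the centralizer of the flip. -/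
theorem sylow_flip {Q : Subgroup G} (hQ : IsPGroup 2 Q)
    (hQu : ∀ q ∈ Q, q * S.f (of 108) = S.f (of 108) * q) (hle : P.withFlip hk T6 ≤ Q) :
    Q = P.withFlip hk T6 := by
  haveI : Fact (Nat.Prime 2) := ⟨Nat.prime_two⟩
  refine eq_of_normalizing hQ hle fun g hgQ hn => ?_
  have hklT : ∀ i, kl i ∈ T6 := fun i => mem_T6.mpr (six_facts.2.2.2.1 i)
  have hperm : ∀ i, ∃ j, g * P.t4 i * g⁻¹ = P.t4 j := by
    intro i
    have hmem : g * P.t4 i * g⁻¹ ∈ P.withFlip hk T6 := hn _ (by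
      cases i using Fin.cases with
      | zero => exact ⟨1, one_mem _, Or.inr (by rw [map_one, mul_one]; rfl)⟩
      | succ j => exact ⟨kl j, hklT j, Or.inl rfl⟩)
    obtain ⟨m, hm⟩ := P.t4_conj hk i
    rw [← hm, show g * (m * S.f (of 108) * m⁻¹) * g⁻¹ = g * m * S.f (of 108) * (g * m)⁻¹ by group] at hmem ⊢
    exact P.class_stab hk (P.withFlip_mono hk T6_le_N6 hmem)
  obtain ⟨y, hy, e⟩ := P.cent_stab hk (hQu g hgQ) hperm
  refine ⟨y, ?_, e⟩
  have hgy : ∀ x : P6, g * P.ι x * g⁻¹ = P.ι (y * x * y⁻¹) := fun x => by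
    rw [map_mul, map_mul, map_inv]
    rcases e with rfl | rfl
    · rfl
    · calc S.f (of 108) * P.ι y * P.ι x * (S.f (of 108) * P.ι y)⁻¹
          = S.f (of 108) * (P.ι y * P.ι x * (P.ι y)⁻¹) * (S.f (of 108))⁻¹ := by group
        _ = _ := by rw [← map_inv, ← map_mul, ← map_mul, ← P.comm_u hk, mul_inv_cancel_right]
  have hin : ∀ x ∈ T6, y * x * y⁻¹ ∈ T6 := fun x hx => by
    obtain ⟨x', hx', e' | e'⟩ := hgy x ▸ hn _ ⟨x, hx, Or.inl rfl⟩
    · rw [P.inj e']; exact hx'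
    · exact absurd e' (P.flip_mul_ne hk _ _)
  exact mem_T6.mpr (six_facts.2.1 y (mem_N6.mp hy) (mem_T6.mp (hin _ (mem_T6.mpr six_facts.2.2.2.2.1)))
    fun i => (mem_T6.mp (hin _ (hklT i))).1)

/-- The four are permuted transitively by their stabilizer. -/
theorem t4_trans (i : Fin 4) :
    ∃ n : G, n * S.f (of 108) * n⁻¹ = P.t4 i ∧ ∀ j, ∃ l, n * P.t4 j * n⁻¹ = P.t4 l := by
  haveI : Fact (Nat.Prime 2) := ⟨Nat.prime_two⟩
  obtain ⟨m, hm⟩ := P.t4_conj hk i
  set E4 := P.withFlip hk E6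
  have hcomm : ∀ y ∈ E4, y * P.t4 i = P.t4 i * y := by
    rintro y ⟨x, hx, e⟩
    obtain ⟨x', hx', e'⟩ := P.t4_mem hk i
    have hxx : x * x' = x' * x := by
      rw [eq_inv_of_mul_eq_one_left (sq_E6 (mul_mem hx hx')), mul_inv_rev,
        ← eq_inv_of_mul_eq_one_left (sq_E6 hx'), ← eq_inv_of_mul_eq_one_left (sq_E6 hx)]
    have hcx : Commute (P.ι x) (P.ι x') := by
      show _ = _
      rw [← map_mul, ← map_mul, hxx]
    have hu : ∀ z, Commute (S.f (of 108)) (P.ι z) := fun z => (P.comm_u hk z).symm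
    show Commute y (P.t4 i)
    rcases e with rfl | rfl <;> rcases e' with e' | e' <;> rw [e']
    · exact hcx
    · exact ((hu x).symm).mul_right hcx
    · exact (hu x').mul_left hcx
    · exact ((Commute.refl _).mul_right (hu x')).mul_left ((hu x).symm.mul_right hcx)
  obtain ⟨c, hcu, hc⟩ := conj_into_of_maximal (M := Subgroup.centralizer ({S.f (of 108)} : Set G))
    (D := P.withFlip hk T6)
    (fun g hg => Subgroup.mem_centralizer_singleton_iff.mpr (P.withFlip_cent hk hg)) (P.four_pgroup hk).2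
    (fun R hR hRM hle => P.sylow_flip hk hR (fun q hq => Subgroup.mem_centralizer_singleton_iff.mp (hRM hq)) hle)
    (Q := E4.map (MulAut.conj m⁻¹).toMonoidHom) ((P.four_pgroup hk).1.map _) (by
      rintro _ ⟨y, hy, rfl⟩
      refine Subgroup.mem_centralizer_singleton_iff.mpr ?_
      show m⁻¹ * y * m⁻¹⁻¹ * S.f (of 108) = S.f (of 108) * (m⁻¹ * y * m⁻¹⁻¹)
      calc m⁻¹ * y * m⁻¹⁻¹ * S.f (of 108) = m⁻¹ * (y * (m * S.f (of 108) * m⁻¹)) * m := by group
        _ = m⁻¹ * (m * S.f (of 108) * m⁻¹ * y) * m := by rw [hm, hcomm y hy]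
        _ = _ := by group)
  replace hcu := Subgroup.mem_centralizer_singleton_iff.mp hcu
  have hmap : ∀ j, ∃ l, c * m⁻¹ * P.t4 j * (c * m⁻¹)⁻¹ = P.t4 l := by
    intro j
    obtain ⟨m', hm'⟩ := P.t4_conj hk j
    have h : c * m⁻¹ * P.t4 j * (c * m⁻¹)⁻¹ ∈ P.withFlip hk T6 := by
      rw [show c * m⁻¹ * P.t4 j * (c * m⁻¹)⁻¹ = c * (m⁻¹ * P.t4 j * m⁻¹⁻¹) * c⁻¹ by group]
      exact hc _ ⟨P.t4 j, P.t4_mem hk j, rfl⟩
    rw [← hm', show c * m⁻¹ * (m' * S.f (of 108) * m'⁻¹) * (c * m⁻¹)⁻¹ =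
      c * m⁻¹ * m' * S.f (of 108) * (c * m⁻¹ * m')⁻¹ by group] at h ⊢
    exact P.class_stab hk (P.withFlip_mono hk T6_le_N6 h)
  have hn := inv_mem (mem_normalizer_range (P.t4_inj hk) hmap)
  refine ⟨(c * m⁻¹)⁻¹, ?_, fun j => ?_⟩
  · calc (c * m⁻¹)⁻¹ * S.f (of 108) * (c * m⁻¹)⁻¹⁻¹ = m * (c⁻¹ * S.f (of 108) * c) * m⁻¹ := by group
      _ = m * S.f (of 108) * m⁻¹ := by rw [mul_assoc c⁻¹, ← hcu, inv_mul_cancel_left]
      _ = _ := hm
  · obtain ⟨l, hl⟩ := (Subgroup.mem_set_normalizer_iff.mp hn (P.t4 j)).mp ⟨j, rfl⟩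
    exact ⟨l, hl.symm⟩

/-- The sign extends to the whole group. -/
theorem exists_sign : ∃ V : G →* Multiplicative (ZMod 2), ∀ x, V (S.f x) = sgA x := by
  classical
  haveI : Fact (Nat.Prime 2) := ⟨Nat.prime_two⟩
  have hm := fun x : Mon => S.mem_three hk x
  set u := S.f (of 108) with hudef
  set K := P.withFlip hk N6
  let a : Multiplicative (ZMod 2) := Multiplicative.ofAdd 1
  have haa : a * a = 1 := (pow_two a).symm.trans (zmod_two_sq a)
  have hval : ∀ {g : G}, g ∈ K → (g ∈ P.ι.range ↔ ¬ ∃ x, g = u * P.ι x) := by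
    rintro g ⟨x, -, e⟩
    refine ⟨?_, fun h => ?_⟩
    · rintro ⟨y, rfl⟩ ⟨z, hz⟩; exact P.flip_mul_ne hk y z hz
    · rcases e with rfl | e
      · exact ⟨x, rfl⟩
      · exact absurd ⟨x, e⟩ h
  let θ : K →* Multiplicative (ZMod 2) := MonoidHom.mk' (fun g => if (g : G) ∈ P.ι.range then 1 else a) (by
    rintro ⟨g, hg⟩ ⟨h, hh⟩
    show (if g * h ∈ P.ι.range then (1 : Multiplicative (ZMod 2)) else a) =
      (if g ∈ P.ι.range then 1 else a) * (if h ∈ P.ι.range then 1 else a)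
    by_cases h1 : g ∈ P.ι.range <;> by_cases h2 : h ∈ P.ι.range
    · rw [if_pos h1, if_pos h2, if_pos (mul_mem h1 h2), one_mul]
    · rw [if_pos h1, if_neg h2, if_neg (fun e => h2 ((Subgroup.mul_mem_cancel_left _ h1).mp e)), one_mul]
    · rw [if_neg h1, if_pos h2, if_neg (fun e => h1 ((Subgroup.mul_mem_cancel_right _ h2).mp e)), mul_one]
    · rw [if_neg h1, if_neg h2, if_pos, haa]
      obtain ⟨x, hx⟩ := not_not.mp (fun n => h1 ((hval hg).mpr n))
      obtain ⟨y, hy⟩ := not_not.mp (fun n => h2 ((hval hh).mpr n))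
      refine ⟨x * y, ?_⟩
      rw [hx, hy, mul_assoc, ← mul_assoc (P.ι x), P.comm_u hk x, mul_assoc, ← mul_assoc, P.u_sq hk, one_mul,
        map_mul])
  let V : G →* Multiplicative (ZMod 2) := MonoidHom.transfer θ
  have huK : u ∈ K := ⟨1, one_mem _, Or.inr (by rw [map_one, mul_one])⟩
  have hu2 : u ^ 2 = 1 := by rw [pow_two]; exact P.u_sq hk
  have hθu : θ ⟨u, huK⟩ ≠ 1 := by
    show (if u ∈ P.ι.range then 1 else a) ≠ 1
    rw [if_neg (fun ⟨x, hx⟩ => P.flip_ne hk x hx.symm)]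
    exact two_values.2
  have hVu : V u = a := by
    have hne : V u ≠ 1 := by
      refine transfer_ne_one K θ hu2 huK hθu ?_ ?_
      · intro g hg hne
        refine ⟨g, ?_, by rw [inv_mul_cancel]; exact one_mem _⟩
        have hg' : g⁻¹ * u * g⁻¹⁻¹ ∈ K := by rwa [inv_inv]
        obtain ⟨i, hi⟩ := P.class_stab hk hg'
        rw [inv_inv] at hi
        cases i using Fin.cases with
        | zero => rw [P.t4_zero, mul_assoc, inv_mul_eq_iff_eq_mul] at hi; exact hi.symm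
        | succ j =>
          exfalso
          refine hne ?_
          show (if g⁻¹ * u * g ∈ P.ι.range then 1 else a) = 1
          rw [if_pos]
          exact ⟨kl j, hi.symm⟩
      · set C := Subgroup.centralizer ({u} : Set G)
        have hTC : P.withFlip hk T6 ≤ C := fun g hg =>
          Subgroup.mem_centralizer_singleton_iff.mpr (P.withFlip_cent hk hg)
        have h := not_dvd_index_of_maximal (p := 2) ((P.withFlip hk T6).subgroupOf C)
          ((P.four_pgroup hk).2.comap_of_injective C.subtype C.subtype_injective) fun Q hQ hle => by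
            have e := P.sylow_flip hk (Q := Q.map C.subtype) (hQ.map _)
              (by rintro _ ⟨q, -, rfl⟩; exact Subgroup.mem_centralizer_singleton_iff.mp q.2)
              (fun y hy => ⟨⟨y, hTC hy⟩, hle hy, rfl⟩)
            refine le_antisymm (fun q hq => ?_) hle
            exact e.le ⟨q, hq, rfl⟩
        exact fun hd => h (hd.trans (Subgroup.index_dvd_of_le fun y hy => P.withFlip_mono hk T6_le_N6 hy))
    exact two_values.1 _ hne
  -- conjugates share the value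
  have hVc : ∀ (g y : G), V (g * y * g⁻¹) = V y := fun g y => by
    rw [map_mul, map_mul, map_inv, mul_right_comm, mul_inv_cancel, one_mul]
  have hVt : ∀ i, V (P.t4 i) = a := fun i => by
    obtain ⟨m, hm⟩ := P.t4_conj hk i
    rw [← hm, hVc, hVu]
  have hVw : V (S.f (of 432)) = a := by
    rw [← P.hW, ← kl_facts.2.2.2.1, klE, cond_true, cond_true, cond_true, map_mul, map_mul, map_mul, map_mul,
      ← P.t4_succ, ← P.t4_succ, ← P.t4_succ, hVt, hVt, hVt, haa, one_mul]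
  have h3kill : ∀ b : G, b ^ 3 = 1 → V b = 1 := fun b hb =>
    eq_one_of_coprime (show Nat.Coprime 3 2 by norm_num) (by rw [← map_pow, hb, map_one]) (zmod_two_sq _)
  -- compare on the normalizer
  let F : Mon →* G := MonoidHom.mk' S.f fun x y => S.f_mul (hm x) (hm y)
  let χ : Mon →* Multiplicative (ZMod 2) := MonoidHom.mk' sgA sgA_mul
  refine ⟨V, fun x => mon_gen (MonoidHom.eqLocus (V.comp F) χ) (hVu.trans flipA_facts.1.symm)
    (hVw.trans flipA_facts.2.1.symm) ((h3kill _ S.σ_cube).trans flipA_facts.2.2.1.symm) (fun v hv => ?_) x⟩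
  exact (h3kill _ (S.J_cube (S.tr_mem_J hv))).trans (flipA_facts.2.2.2.1 ⟨v, hv⟩).symm

/-- The swap is conjugate to the three flips. -/
theorem exists_flips_conj : ∃ g : G, g * S.f (of 129) * g⁻¹ = S.f (of 432) := by
  have hm := fun x : Mon => S.mem_three hk x
  obtain ⟨n, hn, hperm⟩ := P.t4_trans hk (2 : Fin 3).succ
  choose π hπ using hperm
  set φ := MulAut.conj n
  have hπinj : Function.Injective π := fun a b e => P.t4_inj hk (φ.injective ((hπ a).trans (by rw [e, ← hπ b]; rfl)))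
  have h0 : π 0 = (2 : Fin 3).succ := P.t4_inj hk ((hπ 0).symm.trans hn)
  have hfac : ∀ a b c : Fin 4, a ≠ b → a ≠ c → b ≠ c → a ≠ 3 → b ≠ 3 → c ≠ 3 →
      [a, b, c] ∈ [[(0 : Fin 4), 1, 2], [0, 2, 1], [1, 0, 2], [1, 2, 0], [2, 0, 1], [2, 1, 0]] := by
    decide +kernel
  have hd : ∀ i j : Fin 4, i ≠ j → π i ≠ π j := fun i j h e => h (hπinj e)
  have h3 : ∀ i : Fin 3, π i.succ ≠ 3 := fun i e => Fin.succ_ne_zero i (hπinj (e.trans h0.symm))
  have hcom : ∀ i j, P.t4 i * P.t4 j = P.t4 j * P.t4 i := by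
    intro i j
    have he : ∀ y ∈ P.withFlip hk E6, y * y = 1 := by
      rintro y ⟨x, hx, e | e⟩ <;> subst e
      · rw [← map_mul, sq_E6 hx, map_one]
      · rw [mul_assoc, ← mul_assoc (P.ι x), P.comm_u hk x, mul_assoc, ← mul_assoc, P.u_sq hk, one_mul,
          ← map_mul, sq_E6 hx, map_one]
    have hi := t4_mem P hk i
    have hj := t4_mem P hk j
    rw [eq_inv_of_mul_eq_one_left (he _ (mul_mem hi hj)), mul_inv_rev, ← eq_inv_of_mul_eq_one_left (he _ hi),
      ← eq_inv_of_mul_eq_one_left (he _ hj)]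
  have hw : φ (S.f (of 432)) = P.t4 0 * P.t4 1 * P.t4 2 := by
    have e : S.f (of 432) = P.t4 (0 : Fin 3).succ * P.t4 (1 : Fin 3).succ * P.t4 (2 : Fin 3).succ := by
      rw [← P.hW, ← kl_facts.2.2.2.1, klE, cond_true, cond_true, cond_true, map_mul, map_mul]; rfl
    rw [e, map_mul, map_mul]
    show n * P.t4 _ * n⁻¹ * (n * P.t4 _ * n⁻¹) * (n * P.t4 _ * n⁻¹) = _
    rw [hπ, hπ, hπ]
    have hm' := hfac _ _ _ (hd (0 : Fin 3).succ (1 : Fin 3).succ (by decide))
      (hd (0 : Fin 3).succ (2 : Fin 3).succ (by decide)) (hd (1 : Fin 3).succ (2 : Fin 3).succ (by decide))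
      (h3 0) (h3 1) (h3 2)
    generalize π (0 : Fin 3).succ = a at hm' ⊢
    generalize π (1 : Fin 3).succ = b at hm' ⊢
    generalize π (2 : Fin 3).succ = c at hm' ⊢
    have c12 : ∀ i j k, P.t4 i * P.t4 j * P.t4 k = P.t4 j * P.t4 i * P.t4 k := fun i j k => by rw [hcom i j]
    have c23 : ∀ i j k, P.t4 i * P.t4 j * P.t4 k = P.t4 i * P.t4 k * P.t4 j := fun i j k => by
      rw [mul_assoc, hcom j k, ← mul_assoc]
    simp only [List.mem_cons, List.cons.injEq, List.not_mem_nil, or_false, and_true] at hm'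
    rcases hm' with h | h | h | h | h | h <;> obtain ⟨rfl, rfl, rfl⟩ := h
    · rfl
    · exact c23 _ _ _
    · exact c12 _ _ _
    · rw [c23, c12]
    · rw [c12, c23]
    · rw [c12, c23, c12]
  obtain ⟨y, hy⟩ := six_facts.2.2.2.2.2.2.1
  refine ⟨(P.ι y * n)⁻¹, ?_⟩
  have e1 : P.ι y * n * S.f (of 432) * (P.ι y * n)⁻¹ = S.f (of 129) := by
    calc P.ι y * n * S.f (of 432) * (P.ι y * n)⁻¹ = P.ι y * (n * S.f (of 432) * n⁻¹) * (P.ι y)⁻¹ := by group
      _ = P.ι y * (P.t4 0 * P.t4 1 * P.t4 2) * (P.ι y)⁻¹ := by rw [show n * S.f (of 432) * n⁻¹ = _ from hw]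
      _ = S.f (of 108) * (P.ι y * P.ι (kl 0 * kl 1) * (P.ι y)⁻¹) := by
          rw [P.t4_zero, show P.t4 1 = P.ι (kl 0) from rfl, show P.t4 2 = P.ι (kl 1) from rfl,
            mul_assoc (S.f (of 108)), ← map_mul, ← mul_assoc, P.comm_u hk y]
          group
      _ = S.f (of 129) := by
          rw [← map_inv, ← map_mul, ← map_mul, hy, P.ι_double hk, ← S.f_mul (hm _) (hm _),
            flipA_facts.2.2.2.2.2.2.2.2.2.2.1]
  rw [← e1]
  group

/-- The rotation is fused into `J`. -/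
theorem σ_into_J : ∃ g : G, g * S.σ * g⁻¹ ∈ S.J := by
  have hm := fun x : Mon => S.mem_three hk x
  obtain ⟨g, hg⟩ := P.exists_flips_conj hk
  have hc : S.σ * S.f (of 129) = S.f (of 129) * S.σ :=
    ((S.f_comm (hm _) (Kd_mono sg_mem)).mpr classA_facts.2.2.2.2.2.2.2.2.2.2.2.2.2.2.1).symm
  have hq3 : (g * S.σ * g⁻¹) ^ 3 = 1 := by rw [conj_pow, S.σ_cube]; group
  have hq : Commute (g * S.σ * g⁻¹) (S.f (of 432)) := by
    show _ = _
    rw [← hg]
    calc g * S.σ * g⁻¹ * (g * S.f (of 129) * g⁻¹) = g * (S.σ * S.f (of 129)) * g⁻¹ := by group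
      _ = g * (S.f (of 129) * S.σ) * g⁻¹ := by rw [hc]
      _ = _ := by group
  obtain ⟨c, -, hcJ⟩ := S.exists_conj_invol (show 432 < 1296 by norm_num) (hm _) (P.three432 hk)
    classA_facts.2.2.2.2.1.2.1 (P.CN_four hk) (pgroup_zpowers hq3)
    (by rintro q ⟨i, rfl⟩; exact (hq.zpow_left i).eq)
  refine ⟨c * g, ?_⟩
  rw [show c * g * S.σ * (c * g)⁻¹ = c * (g * S.σ * g⁻¹) * c⁻¹ by group]
  exact hcJ _ (Subgroup.mem_zpowers _)

end Comp

end Setup

end CfsgLib.SymNineThree
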